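import Cfsg.Prelude.Def_Spor_Fi23

/-! Witnesses for the derived series. -/

set_option autoImplicit false
set_option maxRecDepth 100000
set_option linter.all false

namespace CfsgLib.SporadicB.Fi23Derived

open Cfsg.Spor.Fi23 (Gen)

def der1 : List (List Nat × List Nat × List Nat) := [
  ([395, 396, 397, 398, 399, 400], [4], [11]),
  ([88, 9], [7, 2, 1], [0]),
  ([401, 402, 403, 404, 398, 405, 406, 407], [8, 4, 12], [3]),
  ([9, 206], [4], [0]),
  ([307, 3], [12, 4], [2]),
  ([408, 409, 410, 411, 412, 413, 360, 414, 415, 343, 416], [4, 10], [1, 13]),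
  ([417, 61, 410, 418, 419, 420, 414, 416], [8, 8], [11, 5, 2])]

def der2 : List (List Nat × List Nat × List Nat) := [
  ([421, 422, 423, 424, 425, 426, 427, 428, 429, 394, 381], [0], [1, 5, 5]),
  ([430, 431, 410, 432, 3, 433, 368, 342, 344, 324], [2, 1, 2], [5, 4, 2]),
  ([434, 422, 435, 436, 437, 392, 438, 341, 439, 344, 324], [2], [6]),
  ([440, 441, 442, 405, 443, 341, 407, 444], [3], [1, 2]),
  ([445, 446, 447, 448, 449, 427, 429, 450, 345, 324, 381], [1, 4], [6]),
  ([451, 452, 453, 454, 455, 456, 3, 457, 341, 439, 416], [5, 3], [6, 3]),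
  ([458, 459, 460, 461, 462, 463, 368, 464, 345], [6, 5, 6], [0, 5, 1])]

def der3 : List (List Nat × List Nat × List Nat) := [
  ([465, 466, 467, 468, 469, 470, 456, 439, 471, 394], [6, 3], [0, 6, 4]),
  ([56, 95], [2], [1]),
  ([472, 473, 474, 475, 476, 477, 478, 479, 439, 480, 381], [2], [6, 2, 2]),
  ([481, 482, 483, 484, 485, 486, 487, 439, 344], [2, 1], [6]),
  ([488, 334, 489, 490, 491, 492, 398, 493, 494, 359, 381, 349], [6, 2], [5, 4, 3])]

def der4 : List (List Nat × List Nat × List Nat) := [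
  ([301, 165], [1], [3, 0, 4]),
  ([495, 496, 497, 498, 444, 389, 499, 500, 381, 349, 343], [4, 2], [3]),
  ([501, 502, 503, 504, 505, 506, 359, 392, 381, 394], [1, 1], [3]),
  ([507, 508, 363, 509, 510, 443, 487, 340, 342, 324], [2, 2, 3], [2, 4, 1]),
  ([511, 512, 513, 348, 328, 514, 391, 500, 394], [2, 4], [0])]

def der5 : List (List Nat × List Nat × List Nat) := [
  ([89, 119], [2, 4, 2], [4]),
  ([515, 516, 471, 448, 517, 444, 518, 439, 480], [3], [1]),
  ([519, 520, 521, 522, 523, 343, 359, 394], [2, 4], [0]),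
  ([524, 334, 525, 526, 527, 109, 528], [0, 4], [2, 4]),
  ([529, 530, 531, 532, 533, 354, 534, 392, 443, 394], [1, 1], [0]),
  ([535, 536, 537, 538, 539, 400, 540, 406], [0, 1, 1], [3, 4, 4]),
  ([541, 542, 543, 544, 545, 546, 547, 484, 392, 394], [4, 2, 2], [3, 0, 0]),
  ([548, 549, 550, 551, 552, 553, 554, 344, 480, 345, 341], [1, 0, 2], [4, 4]),
  ([555, 556, 557, 558, 559, 560, 561, 494, 359, 500, 381], [1, 4, 1], [1])]

def der6 : List (List Nat × List Nat × List Nat) := [
  ([562, 563, 564, 560, 565, 566, 398, 499, 359, 381, 349, 343], [8], [2, 5]),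
  ([567, 568, 569, 570, 571, 572, 444, 344, 518, 480, 342, 381], [7, 4], [4]),
  ([573, 574, 575, 576, 379, 577, 578, 359, 343, 381, 394], [3, 8], [7, 0]),
  ([579, 580, 581, 582, 583, 400, 407, 343, 443, 394], [4], [6]),
  ([584, 585, 586, 587, 588, 589], [7], [7, 6]),
  ([590, 591, 592, 593, 594, 595, 407], [8], [1, 6, 8]),
  ([596, 597, 598, 599, 477, 600, 344, 394], [0, 5, 1], [0, 7, 2]),
  ([601, 602, 603, 598, 599, 604, 553, 518, 439, 450, 345, 394], [6], [4, 5, 4])]

def der7 : List (List Nat × List Nat × List Nat) := [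
  ([605, 606, 607, 608, 609, 610, 611], [4, 6, 1], [6, 1]),
  ([186, 612, 613, 614, 615, 616, 494, 359, 537, 394], [6, 5, 3], [6]),
  ([617, 618, 619, 620, 621, 622, 450, 345, 394], [1, 5], [3]),
  ([623, 624, 398, 625, 328], [7], [5]),
  ([626, 422, 627, 628, 444, 629, 630, 620, 439, 631, 632, 394], [7, 6, 1], [0, 6, 5]),
  ([633, 634, 470, 412, 413, 438, 574, 342, 344, 345], [4, 3, 2], [5, 2]),
  ([96, 17, 90, 19], [7, 2], [6, 7, 5]),
  ([635, 636, 637, 638, 526, 449, 14, 439, 342, 324], [7], [2, 0])]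

def der8 : List (List Nat × List Nat × List Nat) := [
  ([639, 640, 363, 455, 641, 610, 438, 415, 324], [3], [7, 2, 3]),
  ([642, 643, 644, 444, 546, 645, 343, 359, 394], [5, 3, 5], [5, 6, 0]),
  ([646, 647, 648, 470], [4, 1], [7, 7, 3])]

def der9 : List (List Nat × List Nat × List Nat) := [
  ([385, 386, 387, 388, 328, 389, 390, 391, 392, 393, 381, 394], [2, 0], [2, 1])]

end CfsgLib.SporadicB.Fi23Derived
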