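import Cfsg.Agent.Lib.SporadicB.Fi23Derived.Defs

/-! Stabiliser chain data. -/

set_option autoImplicit false
set_option maxRecDepth 100000
set_option linter.all false

namespace CfsgLib.SporadicB.Fi23Derived

open Cfsg.Spor.Fi23 (Gen)

/-- Elements as products of transpositions. -/
def elts : List (List Nat) := [
  [9],
  [333, 334, 335, 336, 337, 338, 339, 340, 341, 342, 343, 344, 345],
  [3],
  [346, 347, 348, 349],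
  [350, 351, 352, 353, 354, 343, 324],
  [355, 356, 357, 358, 359, 360, 340, 342, 343, 344, 345, 324],
  [361, 362, 363, 364, 365, 366, 367, 368, 341, 344],
  [333, 334, 335, 336, 337, 338, 339, 340, 341, 342, 343, 344, 345],
  [350, 351, 352, 353, 354, 343, 324],
  [369, 370, 371, 372, 109, 373, 374, 324],
  [375, 376, 377, 378, 379, 328, 380, 381],
  [382, 383, 384],
  [375, 376, 377, 378, 379, 328, 380, 381],
  [385, 386, 387, 388, 328, 389, 390, 391, 392, 393, 381, 394]]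

def level0 : Level where
  pre := []
  b := 0
  orbit := [0, 128, 27, 312, 217, 152, 59, 188, 254, 303, 65, 46, 80, 6, 214, 131, 260, 295, 117, 258, 147, 68, 52, 228, 83, 148, 106, 208, 38, 201, 172, 174, 268, 91, 89, 138, 25, 306, 134, 202, 180, 280, 195, 114, 285, 164, 66, 11, 1, 190, 300, 278, 74, 170, 75, 139, 26, 233, 248, 322, 166, 186, 286, 64, 200, 267, 308, 269, 179, 136, 277, 100, 12, 145, 42, 71, 14, 194, 198, 220, 142, 116, 96, 41, 259, 184, 223, 185, 187, 92, 95, 175, 57, 193, 76, 207, 23, 141, 107, 291, 22, 10, 19, 229, 310, 314, 144, 298, 307, 276, 221, 222, 319, 240, 320, 55, 39, 297, 146, 90, 292, 7, 126, 247, 271, 61, 252, 241, 62, 69, 316, 173, 305, 313, 125, 304, 211, 311, 150, 163, 81, 244, 37, 2, 182, 251, 32, 270, 85, 290, 154, 87, 265, 15, 234, 3, 56, 43, 218, 111, 31, 230, 29, 99, 279, 88, 159, 227, 287,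 177, 34, 212, 86, 118, 213, 51, 124, 45, 167, 60, 122, 231, 77, 191, 93, 84, 301, 70, 9, 18, 181, 132, 189, 127, 105, 47, 296, 28, 284, 137, 256, 294, 293, 317, 272, 282, 161, 203, 264, 8, 13, 263, 97, 321, 168, 162, 72, 275, 323, 30, 17, 140, 225, 16, 318, 235, 35, 48, 261, 226, 176, 50, 110, 133, 266, 250, 123, 149, 315, 20, 239, 273, 309, 160, 44, 143, 153, 246, 210, 253, 204, 63, 289, 67, 73, 192, 169, 54, 115, 135, 157, 219, 199, 224, 103, 196, 197, 283, 40, 79, 206, 165, 33, 5, 257, 236, 302, 36, 216, 24, 94, 130, 215, 183, 237, 53, 262, 119, 113, 82, 205, 156, 245, 288, 21, 151, 102, 274, 249, 129, 109, 281, 101, 98, 238, 255, 58, 4, 178, 104, 108, 242, 78, 158, 120, 155, 243, 299, 209, 49, 171, 112, 232, 121]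
  steps := [(0, 0), (0, 0), (0, 2), (1, 1), (1, 2), (2, 0), (2, 1), (3, 0), (3, 1), (3, 2), (4, 0), (4, 1), (5, 1), (6, 0), (6, 1), (7, 1), (8, 0), (8, 1), (8, 2), (9, 1), (10, 1), (11, 0), (11, 1), (11, 2), (12, 0), (12, 1), (12, 2), (13, 1), (13, 2), (14, 0), (14, 1), (14, 2), (15, 0), (15, 1), (15, 2), (16, 1), (16, 2), (17, 0), (17, 1), (17, 2), (18, 0), (18, 1), (19, 1), (19, 2), (20, 0), (20, 1), (20, 2), (21, 1), (21, 2), (22, 0), (22, 1), (22, 2), (23, 0), (23, 1), (24, 1), (24, 2), (25, 0), (25, 1), (25, 2), (26, 0), (26, 1), (27, 0), (27, 1), (27, 2), (29, 1), (29, 2), (30, 0), (30, 1), (31, 0), (31, 1), (32, 2), (33, 0), (33, 1), (34, 0), (34, 1), (35, 0), (35, 1), (35, 2), (36, 0), (36, 1), (37, 2), (38, 0), (38, 1), (38, 2), (39, 0), (39, 1), (40, 1), (41, 1), (41, 2), (42, 1), (42, 2), (43, 0), (43, 1), (44, 1), (44,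 2), (45, 0), (45, 1), (45, 2), (46, 0), (46, 1), (47, 1), (47, 2), (48, 0), (49, 2), (50, 0), (50, 1), (50, 2), (51, 0), (51, 1), (52, 1), (53, 0), (53, 2), (54, 0), (54, 1), (55, 0), (56, 1), (57, 0), (57, 1), (57, 2), (59, 1), (60, 2), (61, 1), (61, 2), (62, 0), (62, 2), (63, 0), (63, 1), (64, 0), (64, 1), (64, 2), (65, 0), (66, 1), (66, 2), (67, 0), (67, 1), (67, 2), (69, 0), (69, 1), (69, 2), (70, 0), (70, 1), (71, 2), (72, 0), (72, 1), (72, 2), (73, 1), (74, 0), (74, 1), (74, 2), (75, 1), (75, 2), (76, 0), (76, 1), (76, 2), (77, 0), (77, 1), (79, 0), (79, 1), (80, 0), (82, 0), (82, 1), (82, 2), (83, 1), (84, 1), (85, 0), (85, 2), (86, 2), (87, 0), (88, 0), (88, 1), (89, 0), (89, 1), (89, 2), (90, 0), (90, 1), (91, 1), (92, 0), (92, 1), (93, 1), (94, 0), (95, 2), (96, 1), (96, 2), (97, 0), (97, 1), (98, 1), (99, 2), (100, 0),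 (100, 1), (101, 0), (101, 1), (103, 0), (103, 1), (104, 2), (105, 0), (105, 1), (105, 2), (106, 0), (108, 0), (108, 2), (109, 0), (109, 1), (109, 2), (112, 2), (113, 0), (113, 2), (114, 1), (115, 0), (115, 1), (116, 1), (116, 2), (117, 0), (117, 1), (117, 2), (118, 1), (119, 1), (119, 2), (120, 0), (120, 1), (121, 0), (121, 2), (123, 2), (124, 0), (125, 1), (126, 0), (127, 1), (127, 2), (128, 0), (128, 1), (128, 2), (129, 0), (130, 1), (131, 2), (132, 1), (133, 2), (134, 0), (136, 1), (136, 2), (137, 0), (137, 1), (137, 2), (138, 1), (142, 1), (143, 0), (143, 1), (144, 0), (144, 1), (145, 0), (145, 1), (150, 1), (152, 1), (153, 1), (154, 1), (155, 0), (156, 2), (157, 0), (157, 1), (158, 1), (160, 0), (162, 0), (163, 1), (165, 0), (166, 0), (166, 1), (169, 2), (174, 1), (175, 0), (176, 1), (177, 2), (180, 0), (180, 1), (181, 0), (181,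 1), (182, 0), (185, 0), (187, 1), (188, 1), (190, 1), (191, 1), (193, 0), (194, 2), (196, 0), (200, 1), (203, 1), (204, 2), (206, 0), (208, 0), (208, 2), (210, 1), (211, 2), (212, 0), (212, 1), (219, 1), (223, 1), (224, 1), (225, 1), (226, 0), (227, 1), (228, 1), (228, 2), (229, 1), (230, 1), (231, 0), (233, 0), (235, 1), (237, 1), (243, 2), (244, 0), (244, 1), (245, 1), (247, 1), (249, 1), (249, 2), (257, 1), (259, 1), (265, 2), (266, 2), (270, 1), (274, 2), (280, 0), (281, 1), (282, 1), (299, 1), (304, 2)]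
  gens := [0, 1, 2]
  terms := [([], 0)]
  pats := []
  wit := [.mem 0, .mem 48, .mem 143, .mem 155, .mem 307, .mem 273, .mem 13, .mem 121, .mem 209, .mem 188, .mem 101, .mem 47, .mem 72, .mem 210, .mem 76, .mem 153, .mem 223, .mem 220, .mem 189, .mem 102, .mem 239, .mem 294, .mem 100, .mem 96, .mem 279, .mem 36, .mem 56, .mem 2, .mem 197, .mem 162, .mem 219, .mem 160, .mem 146, .mem 272, .mem 170, .mem 226, .mem 277, .mem 142, .mem 28, .mem 116, .mem 268, .mem 83, .mem 74, .mem 157, .mem 244, .mem 177, .mem 11, .mem 195, .mem 227, .mem 319, .mem 231, .mem 175, .mem 22, .mem 285, .mem 257, .mem 115, .mem 156, .mem 92, .mem 306, .mem 6, .mem 179, .mem 125, .mem 128, .mem 251, .mem 63, .mem 10, .mem 46, .mem 253, .mem 21, .mem 129, .mem 187, .mem 75, .mem 216, .mem 254, .mem 52, .mem 54, .mem 94, .mem 182, .mem 312, .mem 269, .mem 12,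 .mem 140, .mem 289, .mem 24, .mem 185, .mem 148, .mem 172, .mem 151, .mem 165, .mem 34, .mem 119, .mem 33, .mem 89, .mem 184, .mem 280, .mem 90, .mem 82, .mem 212, .mem 303, .mem 163, .mem 71, .mem 302, .mem 296, .mem 264, .mem 309, .mem 194, .mem 26, .mem 98, .mem 310, .mem 300, .mem 232, .mem 159, .mem 321, .mem 288, .mem 43, .mem 258, .mem 81, .mem 18, .mem 173, .mem 287, .mem 314, .mem 323, .mem 180, .mem 236, .mem 176, .mem 134, .mem 122, .mem 193, .mem 1, .mem 299, .mem 281, .mem 15, .mem 191, .mem 233, .mem 38, .mem 259, .mem 69, .mem 199, .mem 35, .mem 55, .mem 221, .mem 97, .mem 80, .mem 245, .mem 106, .mem 73, .mem 118, .mem 20, .mem 25, .mem 237, .mem 138, .mem 295, .mem 5, .mem 246, .mem 150, .mem 315, .mem 291, .mem 260, .mem 313, .mem 166, .mem 243, .mem 206, .mem 215, .mem 139, .mem 45, .mem 271, .mem 60, .mem 178,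 .mem 214, .mem 256, .mem 53, .mem 320, .mem 30, .mem 131, .mem 31, .mem 91, .mem 230, .mem 169, .mem 308, .mem 68, .mem 40, .mem 190, .mem 144, .mem 283, .mem 85, .mem 87, .mem 61, .mem 88, .mem 7, .mem 192, .mem 49, .mem 183, .mem 255, .mem 93, .mem 77, .mem 42, .mem 265, .mem 266, .mem 78, .mem 262, .mem 64, .mem 29, .mem 39, .mem 207, .mem 250, .mem 290, .mem 270, .mem 95, .mem 27, .mem 318, .mem 248, .mem 136, .mem 171, .mem 174, .mem 14, .mem 282, .mem 278, .mem 4, .mem 158, .mem 261, .mem 79, .mem 110, .mem 111, .mem 86, .mem 263, .mem 222, .mem 229, .mem 167, .mem 23, .mem 103, .mem 161, .mem 181, .mem 322, .mem 57, .mem 154, .mem 225, .mem 275, .mem 284, .mem 304, .mem 240, .mem 113, .mem 127, .mem 311, .mem 316, .mem 141, .mem 292, .mem 247, .mem 123, .mem 58, .mem 298, .mem 235, .mem 145, .mem 126, .mem 249, .mem 8, .mem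 305, .mem 200, .mem 274, .mem 19, .mem 84, .mem 16, .mem 228, .mem 286, .mem 211, .mem 208, .mem 152, .mem 234, .mem 65, .mem 32, .mem 67, .mem 147, .mem 124, .mem 204, .mem 241, .mem 297, .mem 217, .mem 109, .mem 70, .mem 51, .mem 164, .mem 41, .mem 301, .mem 205, .mem 267, .mem 198, .mem 44, .mem 62, .mem 168, .mem 293, .mem 252, .mem 149, .mem 99, .mem 120, .mem 202, .mem 201, .mem 17, .mem 196, .mem 117, .mem 107, .mem 317, .mem 50, .mem 186, .mem 276, .mem 9, .mem 135, .mem 132, .mem 37, .mem 108, .mem 66, .mem 242, .mem 104, .mem 137, .mem 3, .mem 133, .mem 105, .mem 238, .mem 130, .mem 203, .mem 224, .mem 112, .mem 114, .mem 213, .mem 59, .mem 218]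

def level1 : Level where
  pre := [0]
  b := 1
  orbit := [1, 289, 56, 88, 127, 292, 215, 155, 187, 234, 141, 95, 93, 36, 286, 157, 256, 166, 296, 317, 55, 34, 213, 15, 272, 251, 197, 295, 11, 320, 192, 123, 67, 244, 31, 243, 78, 195, 2, 316, 144, 25, 246, 162, 315, 43, 313, 305, 199, 252, 75, 284, 255, 209, 214, 4, 239, 83, 319, 161, 167, 208, 66, 72, 21, 278, 168, 283, 228, 159, 177, 120, 238, 16, 143, 216, 176, 122, 293, 8, 280, 299, 24, 148, 90, 275, 125, 281, 146, 85, 62, 264, 258, 84, 111, 279, 193, 124, 189, 269, 267, 240, 297, 201, 218, 163, 188, 322, 242, 99, 220, 51, 59, 110, 231, 222, 105, 44, 262, 257, 312, 133, 106, 175, 23, 254, 128, 73, 71, 291, 30, 126, 64, 179, 19, 94, 185, 118, 76, 87, 223, 112, 50, 210, 205, 63, 121, 173, 191, 156, 180, 241, 86, 48, 40, 46, 164, 263, 45, 132, 129, 17, 200, 29, 68, 149, 227, 65,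 114, 104, 321, 150, 22, 61, 300, 217, 101, 92, 32, 135, 80, 206, 26, 184, 54, 81, 69, 57, 198, 96, 134, 47, 52, 226, 211, 318, 103, 259, 203, 245, 109, 323, 224, 9, 190, 102, 194, 37, 131, 268, 181, 229, 39, 236, 27, 97, 183, 249, 117, 154, 237, 145, 108, 152, 207, 302, 49, 248, 250, 266, 314, 288, 309, 100, 232, 151, 277, 219, 261, 6, 253, 33, 290, 196, 58, 147, 202, 70, 137, 38, 12, 160, 271, 107, 310, 230, 308, 77, 165, 5, 172, 158, 140, 274, 98, 285, 10, 233, 301, 41, 225, 212, 170, 60, 303, 307, 221, 3, 178, 273, 53, 169, 235, 142, 247, 306, 18, 91]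
  steps := [(0, 0), (0, 3), (0, 5), (1, 3), (1, 4), (1, 5), (2, 3), (2, 4), (2, 5), (3, 3), (3, 4), (3, 5), (4, 3), (4, 5), (5, 3), (5, 4), (5, 5), (6, 4), (6, 5), (7, 3), (7, 4), (7, 5), (8, 3), (8, 4), (9, 4), (9, 5), (10, 5), (11, 3), (11, 4), (11, 5), (12, 3), (12, 5), (13, 3), (13, 4), (13, 5), (14, 4), (14, 5), (15, 3), (15, 4), (15, 5), (16, 3), (16, 4), (17, 4), (17, 5), (18, 3), (18, 4), (18, 5), (19, 3), (19, 4), (19, 5), (20, 3), (20, 5), (21, 3), (21, 5), (22, 4), (22, 5), (23, 3), (23, 5), (24, 5), (25, 3), (25, 4), (25, 5), (26, 3), (26, 5), (27, 4), (27, 5), (28, 3), (28, 4), (29, 3), (30, 5), (31, 3), (31, 4), (31, 5), (32, 4), (32, 5), (33, 4), (33, 5), (34, 3), (34, 4), (35, 4), (35, 5), (36, 3), (36, 4), (36, 5), (37, 5), (38, 3), (38, 5), (39, 4), (39, 5), (40, 4), (40, 5), (41, 3), (41, 4), (41, 5), (42, 3), (43,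 4), (43, 5), (44, 4), (44, 5), (45, 3), (45, 4), (45, 5), (46, 3), (46, 4), (46, 5), (47, 5), (48, 3), (49, 3), (49, 4), (49, 5), (50, 5), (51, 3), (51, 5), (52, 3), (53, 3), (53, 5), (54, 4), (54, 5), (55, 3), (55, 4), (55, 5), (56, 4), (57, 4), (57, 5), (58, 4), (58, 5), (59, 5), (60, 3), (61, 3), (62, 5), (63, 3), (63, 4), (64, 5), (65, 3), (65, 4), (65, 5), (66, 5), (67, 3), (69, 3), (69, 5), (70, 4), (70, 5), (71, 5), (72, 3), (72, 4), (73, 4), (73, 5), (74, 3), (74, 4), (74, 5), (76, 5), (77, 4), (77, 5), (78, 3), (78, 4), (80, 4), (80, 5), (81, 4), (81, 5), (82, 3), (82, 4), (82, 5), (83, 4), (84, 4), (84, 5), (87, 3), (87, 5), (88, 3), (90, 4), (90, 5), (91, 4), (91, 5), (92, 3), (93, 4), (95, 3), (95, 4), (95, 5), (96, 3), (96, 4), (97, 4), (98, 3), (98, 5), (99, 5), (100, 3), (100, 4), (100, 5), (101, 4), (102, 3), (103,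 4), (103, 5), (104, 5), (107, 4), (108, 4), (109, 3), (109, 4), (113, 5), (114, 5), (116, 5), (118, 5), (119, 5), (120, 4), (120, 5), (121, 4), (121, 5), (122, 3), (126, 3), (126, 4), (126, 5), (128, 4), (128, 5), (129, 3), (129, 5), (131, 5), (132, 4), (133, 4), (133, 5), (134, 4), (135, 4), (136, 3), (136, 4), (136, 5), (141, 3), (141, 4), (141, 5), (146, 4), (146, 5), (148, 3), (151, 4), (152, 5), (154, 3), (155, 4), (155, 5), (158, 3), (158, 5), (160, 5), (161, 3), (161, 4), (161, 5), (162, 3), (162, 5), (163, 4), (167, 5), (168, 5), (169, 3), (169, 4), (170, 5), (172, 5), (174, 4), (176, 5), (177, 5), (178, 4), (181, 3), (181, 4), (185, 4), (186, 3), (186, 5), (188, 5), (189, 3), (191, 4), (196, 4), (197, 4), (199, 3), (200, 4), (203, 4), (203, 5), (204, 5), (215, 5), (217, 4), (219, 4), (224, 4), (227, 5), (228, 4), (232, 5),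 (234, 4), (236, 5), (238, 5), (241, 4), (244, 4), (245, 4), (246, 4), (248, 4), (249, 4), (252, 4), (255, 4), (262, 5), (263, 3), (265, 4), (270, 4)]
  gens := [3, 4, 5]
  terms := [([], 0), ([], 1), ([1], 0)]
  pats := [0, 1, 3, 4, 12, 16, 48]
  wit := [.eqn ([], 1) ([], 0), .mem 0, .mem 38, .mem 277, .mem 55, .mem 259, .mem 239, .eqn ([0], 1) ([1], 0), .mem 79, .mem 203, .mem 266, .mem 28, .mem 250, .eqn ([0], 1) ([1], 0), .eqn ([0], 1) ([1], 0), .mem 23, .mem 73, .mem 161, .mem 286, .mem 134, .eqn ([0], 1) ([1], 0), .mem 64, .mem 172, .mem 124, .mem 82, .mem 41, .mem 182, .mem 214, .eqn ([0], 1) ([1], 0), .mem 163, .mem 130, .mem 34, .mem 178, .mem 241, .mem 21, .eqn ([0], 1) ([1], 0), .mem 13, .mem 207, .mem 249, .mem 212, .mem 154, .mem 269, .eqn ([0], 1) ([1], 0), .mem 45, .mem 117, .mem 158, .mem 155, .mem 191, .mem 153, .mem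 226, .mem 142, .mem 111, .mem 192, .mem 280, .mem 184, .mem 20, .mem 2, .mem 187, .mem 244, .mem 112, .mem 273, .mem 173, .mem 90, .mem 145, .mem 132, .mem 167, .mem 62, .mem 32, .mem 164, .mem 186, .mem 247, .mem 128, .mem 63, .mem 127, .eqn ([0], 1) ([1], 0), .mem 50, .mem 138, .mem 257, .mem 36, .eqn ([0], 1) ([1], 0), .mem 180, .mem 185, .pat 7, .mem 57, .mem 93, .mem 89, .mem 152, .mem 139, .mem 3, .eqn ([0], 1) ([1], 0), .mem 84, .mem 287, .mem 177, .mem 12, .mem 135, .mem 11, .mem 189, .mem 215, .mem 264, .mem 109, .mem 233, .mem 176, .mem 205, .mem 196, .mem 169, .mem 116, .mem 122, .mem 253, .mem 222, .mem 200, .mem 113, .mem 94, .mem 141, .eqn ([0], 1) ([1], 0), .mem 168, .eqn ([0], 1) ([1], 0), .pat 7, .mem 218, .mem 137, .eqn ([0], 1) ([1], 0), .mem 71, .mem 146, .mem 77, .mem 31, .mem 97, .mem 86, .mem 131, .mem 4, .mem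 126, .mem 160, .pat 7, .mem 208, .mem 159, .mem 121, .mem 190, .mem 179, .eqn ([0], 1) ([1], 0), .mem 248, .eqn ([0], 1) ([1], 0), .eqn ([0], 1) ([1], 0), .mem 262, .mem 10, .mem 283, .mem 74, .mem 40, .mem 221, .mem 88, .mem 245, .mem 83, .mem 165, .mem 171, .mem 235, .mem 223, .pat 7, .mem 219, .mem 7, .mem 149, .mem 15, .mem 261, .mem 69, .mem 251, .mem 59, .mem 43, .mem 105, .mem 156, .mem 258, .mem 17, .mem 60, .mem 66, .mem 281, .mem 272, .pat 7, .mem 260, .mem 147, .eqn ([0], 1) ([1], 0), .mem 123, .mem 76, .mem 70, .mem 278, .mem 133, .mem 150, .mem 210, .pat 7, .mem 216, .mem 183, .mem 136, .eqn ([0], 1) ([1], 0), .mem 8, .mem 106, .mem 98, .mem 204, .mem 148, .mem 30, .mem 96, .mem 206, .mem 37, .mem 243, .mem 26, .mem 188, .mem 48, .mem 162, .mem 103, .mem 246, .mem 198, .eqn ([0], 1) ([1], 0), .mem 144, .mem 181, .mem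 224, .mem 61, .mem 53, .mem 143, .mem 194, .mem 271, .mem 22, .mem 54, .mem 6, .mem 75, .mem 175, .mem 104, .mem 237, .mem 110, .mem 276, .mem 115, .mem 140, .mem 202, .mem 270, .mem 193, .mem 166, .mem 68, .mem 211, .mem 255, .mem 114, .mem 234, .mem 267, .mem 9, .mem 282, .mem 213, .mem 220, .mem 72, .mem 56, .mem 101, .mem 151, .mem 108, .mem 35, .mem 33, .mem 199, .mem 42, .mem 284, .mem 227, .mem 217, .mem 228, .mem 25, .mem 49, .mem 240, .mem 125, .mem 52, .mem 16, .mem 119, .mem 92, .mem 197, .eqn ([0], 1) ([1], 0), .mem 238, .mem 118, .mem 157, .mem 91, .eqn ([0], 1) ([1], 0), .mem 229, .mem 100, .mem 209, .mem 99, .eqn ([0], 1) ([1], 0), .mem 252, .mem 24, .mem 279, .mem 263, .mem 85, .eqn ([0], 1) ([1], 0), .mem 236, .mem 65, .mem 95, .mem 80, .mem 87, .eqn ([0], 1) ([1], 0), .mem 67, .mem 51, .mem 265, .mem 14, .eqn ([0],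 1) ([1], 0), .mem 231, .mem 1, .mem 242, .mem 129, .mem 5, .mem 78, .eqn ([0], 1) ([1], 0), .mem 27, .mem 18, .mem 102, .pat 7, .mem 81, .mem 174, .mem 268, .mem 225, .mem 274, .pat 7, .mem 47, .mem 285, .mem 275, .mem 256, .mem 232, .mem 254, .eqn ([0], 1) ([1], 0), .mem 120, .mem 46, .mem 230, .mem 44, .mem 39, .mem 19, .mem 195, .mem 58, .mem 29, .mem 170, .mem 107, .mem 201]

def level2 : Level where
  pre := [0, 1]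
  b := 2
  orbit := [2, 220, 44, 251, 125, 43, 218, 175, 178, 22, 66, 210, 167, 75, 48, 319, 263, 169, 267, 292, 54, 168, 214, 51, 227, 107, 49, 100, 258, 9, 323, 36, 291, 73, 256, 308, 195, 321, 188, 240, 215, 15, 274, 190, 67, 144, 23, 191, 111, 184, 91, 205, 160, 38, 161, 157, 102, 158, 155, 69, 172, 105, 219, 177, 133, 317, 87, 84, 6, 194, 164, 211, 259, 231, 238, 58, 302, 31, 77, 264, 295, 122, 244, 17, 226, 213, 25, 203, 173, 225, 92, 318, 228, 63, 131, 151, 306, 123, 112, 166, 209, 3, 27, 170, 146, 285, 71, 197, 78, 16, 85, 59, 124, 140, 275, 150, 101, 142, 12, 196, 246, 320, 303, 106, 95, 296, 243, 55, 310, 53, 269, 180, 288, 56, 143, 223, 61, 271, 224, 11, 183, 199, 39, 206, 208, 137, 145, 99, 40, 33, 103, 315, 76, 293, 96, 147, 221, 134, 21, 254, 241, 266, 216, 277, 135, 109, 128, 72, 10, 187, 230, 26, 68, 237, 212, 65,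 284, 19, 83, 120, 181, 250, 108, 18, 312, 179, 232, 193, 290, 286, 30, 305, 24, 283, 235, 104, 273, 126, 307, 32, 299, 8, 129, 5, 118, 248, 278, 159, 239, 81, 222, 247, 132, 60, 245, 202]
  steps := [(0, 0), (0, 6), (0, 7), (0, 8), (1, 6), (1, 7), (1, 8), (2, 6), (2, 7), (2, 8), (3, 6), (3, 7), (3, 8), (4, 6), (4, 7), (4, 8), (5, 6), (5, 7), (5, 8), (6, 6), (6, 7), (6, 8), (7, 6), (7, 7), (7, 8), (8, 6), (8, 7), (8, 8), (9, 6), (9, 7), (9, 8), (10, 6), (10, 7), (10, 8), (11, 6), (11, 7), (12, 6), (12, 7), (12, 8), (13, 7), (13, 8), (14, 6), (14, 7), (14, 8), (15, 6), (15, 7), (15, 8), (16, 6), (16, 7), (16, 8), (17, 6), (17, 7), (17, 8), (18, 7), (19, 6), (19, 8), (20, 6), (20, 7), (21, 6), (21, 7), (22, 7), (22, 8), (23, 7), (23, 8), (24, 6), (24, 7), (24, 8), (25, 7), (25, 8), (26, 6), (26, 8), (27, 7), (27, 8), (28, 6), (28, 8),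 (29, 6), (29, 7), (30, 6), (30, 7), (30, 8), (31, 6), (31, 7), (31, 8), (32, 8), (33, 7), (34, 6), (34, 8), (35, 6), (35, 7), (35, 8), (36, 7), (37, 6), (37, 8), (38, 6), (38, 7), (39, 6), (39, 7), (40, 6), (40, 7), (40, 8), (41, 8), (42, 6), (42, 7), (42, 8), (43, 6), (43, 7), (43, 8), (44, 6), (44, 7), (44, 8), (45, 8), (46, 8), (47, 6), (47, 7), (48, 6), (48, 7), (49, 6), (50, 6), (50, 7), (50, 8), (51, 7), (52, 7), (52, 8), (53, 7), (54, 6), (54, 7), (55, 6), (58, 8), (59, 6), (60, 6), (60, 7), (61, 6), (62, 8), (63, 6), (63, 7), (63, 8), (64, 6), (64, 7), (64, 8), (65, 6), (65, 7), (65, 8), (66, 8), (68, 6), (68, 7), (68, 8), (70, 8), (72, 7), (73, 6), (73, 7), (75, 6), (76, 8), (77, 7), (77, 8), (78, 6), (78, 8), (79, 7), (80, 7), (80, 8), (81, 6), (81, 8), (82, 7), (82, 8), (83, 8), (84, 6), (84, 7), (84, 8), (85, 6), (87,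 6), (87, 7), (87, 8), (88, 8), (89, 7), (90, 6), (90, 7), (91, 6), (93, 6), (93, 7), (94, 6), (97, 8), (98, 6), (98, 7), (98, 8), (101, 6), (101, 8), (103, 7), (105, 6), (105, 7), (106, 7), (107, 6), (107, 7), (107, 8), (108, 8), (112, 7), (113, 6), (113, 8), (115, 7), (117, 7), (117, 8), (119, 7), (125, 6), (126, 8), (128, 6), (129, 6), (135, 8), (136, 6), (146, 6), (152, 6), (153, 6), (154, 8), (158, 6), (174, 8), (180, 8), (183, 6), (184, 6), (186, 6)]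
  gens := [6, 7, 8]
  terms := [([], 0), ([], 1), ([], 2), ([1], 0), ([2], 0), ([2], 1), ([2, 1], 0), ([1, 2], 0), ([0, 2], 1)]
  pats := [0, 1, 3, 4, 12, 16, 48, 64, 192, 256, 768, 1024, 3072, 4096, 12288, 16384, 49152, 65536, 196608]
  wit := [.eqn ([], 2) ([], 0), .eqn ([], 2) ([], 1), .mem 0, .mem 101, .eqn ([1], 2) ([2], 1), .mem 203, .mem 68, .eqn ([0], 2) ([2], 0), .mem 201, .mem 29, .mem 168, .mem 139, .mem 118, .eqn ([0], 2) ([2], 0), .eqn ([0], 2) ([2], 0), .mem 41, .mem 109, .mem 83, .mem 183, .mem 177, .eqn ([0], 2) ([2], 0), .mem 158, .mem 9, .mem 46, .mem 192, .mem 86, .mem 171, .mem 102, .eqn ([0], 2) ([2], 0), .eqn ([0, 2, 1], 0) ([1, 2], 0), .mem 190, .mem 77, .mem 199, .mem 149, .pat 4, .eqn ([0], 2) ([2], 0), .mem 31, .eqn ([1], 2) ([2], 1), .mem 53, .mem 142, .mem 148, .eqn ([0, 2, 1], 0) ([1, 2], 0), .eqn ([0],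 2) ([2], 0), .mem 5, .mem 2, .eqn ([1], 2) ([2], 1), .eqn ([0, 2, 1], 0) ([1, 2], 0), .eqn ([0, 2, 1], 0) ([1, 2], 0), .mem 14, .mem 26, .pat 4, .mem 23, .eqn ([0, 2, 1], 0) ([1, 2], 0), .mem 129, .mem 20, .mem 127, .mem 133, .eqn ([1], 2) ([2], 1), .mem 75, .mem 111, .mem 213, .mem 136, .eqn ([1], 2) ([2], 1), .mem 93, .eqn ([0, 2, 1], 0) ([1, 2], 0), .mem 175, .mem 10, .mem 44, .mem 172, .mem 59, .eqn ([0, 2, 1], 0) ([1, 2], 0), .mem 106, .mem 167, .mem 33, .eqn ([0], 2) ([2], 0), .mem 13, .mem 152, .mem 78, .mem 108, .eqn ([0], 2) ([2], 0), .eqn ([1], 2) ([2], 1), .mem 209, .pat 4, .mem 178, .mem 67, .mem 110, .eqn ([1], 2) ([2], 1), .mem 66, .pat 4, .eqn ([0], 2) ([2], 0), .eqn ([0, 2, 1], 0) ([1, 2], 0), .mem 50, .mem 90, .pat 4, .eqn ([1], 2) ([2], 1), .mem 124, .mem 154, .eqn ([1], 2) ([2], 1), .eqn ([0, 2, 1], 0) ([1, 2],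 0), .mem 147, .mem 27, .mem 116, .mem 56, .mem 150, .mem 195, .mem 61, .mem 123, .mem 25, .mem 182, .mem 165, .pat 4, .mem 48, .mem 98, .eqn ([0], 2) ([2], 0), .eqn ([1], 2) ([2], 1), .eqn ([0], 2) ([2], 0), .pat 4, .eqn ([0, 2, 1], 0) ([1, 2], 0), .mem 204, .eqn ([0], 2) ([2], 0), .mem 179, .eqn ([0, 2, 1], 0) ([1, 2], 0), .mem 81, .mem 97, .mem 112, .mem 4, .mem 197, .pat 4, .mem 166, .mem 202, .pat 4, .mem 94, .mem 212, .mem 64, .mem 157, .mem 164, .eqn ([0], 2) ([2], 0), .mem 145, .eqn ([0], 2) ([2], 0), .eqn ([0], 2) ([2], 0), .mem 113, .pat 4, .mem 117, .mem 134, .mem 45, .mem 146, .mem 104, .mem 155, .eqn ([1], 2) ([2], 1), .pat 4, .mem 115, .mem 95, .eqn ([1], 2) ([2], 1), .pat 4, .eqn ([0, 2, 1], 0) ([1, 2], 0), .mem 58, .eqn ([1], 2) ([2], 1), .mem 55, .mem 57, .mem 207, .mem 52, .mem 54, .eqn ([0, 2, 1], 0) ([1, 2], 0),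 .eqn ([1], 0) ([], 2), .mem 70, .eqn ([0, 2, 1], 0) ([1, 2], 0), .mem 99, .mem 12, .mem 21, .mem 17, .mem 103, .pat 4, .mem 60, .mem 88, .eqn ([0], 2) ([2], 0), .mem 7, .pat 4, .mem 63, .mem 8, .mem 185, .mem 131, .mem 180, .pat 4, .mem 140, .mem 49, .eqn ([0, 2, 1], 0) ([1, 2], 0), .eqn ([0], 2) ([2], 0), .mem 169, .mem 38, .eqn ([1], 2) ([2], 1), .mem 43, .mem 47, .pat 4, .mem 187, .mem 69, .mem 36, .mem 119, .mem 107, .eqn ([1], 2) ([2], 1), .mem 141, .eqn ([1], 2) ([2], 1), .eqn ([1], 2) ([2], 1), .mem 215, .mem 87, .eqn ([0], 2) ([2], 0), .mem 51, .mem 143, .eqn ([0, 2, 1], 0) ([1, 2], 0), .mem 144, .mem 100, .mem 11, .mem 71, .mem 174, .mem 85, .mem 22, .mem 40, .mem 162, .eqn ([0, 2, 1], 0) ([1, 2], 0), .mem 6, .mem 62, .mem 1, .mem 156, .mem 210, .mem 135, .mem 138, .mem 89, .mem 84, .mem 24, .mem 92, .eqn ([1], 2) ([2], 1),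 .mem 170, .mem 73, .mem 186, .eqn ([1], 2) ([2], 1), .pat 4, .mem 194, .eqn ([0, 2, 1], 0) ([1, 2], 0), .mem 173, .mem 74, .mem 208, .mem 39, .mem 160, .eqn ([0, 2, 1], 0) ([1, 2], 0), .mem 126, .mem 82, .mem 214, .mem 120, .mem 211, .mem 205, .eqn ([1], 2) ([2], 1), .mem 181, .mem 3, .eqn ([0, 2, 1], 0) ([1, 2], 0), .eqn ([0, 2, 1], 0) ([1, 2], 0), .mem 159, .pat 4, .mem 34, .eqn ([1], 2) ([2], 1), .mem 28, .mem 72, .eqn ([0], 2) ([2], 0), .eqn ([1], 2) ([2], 1), .eqn ([1], 2) ([2], 1), .mem 16, .mem 79, .eqn ([0], 2) ([2], 0), .mem 161, .mem 18, .eqn ([1], 2) ([2], 1), .mem 130, .eqn ([0], 2) ([2], 0), .mem 137, .pat 4, .mem 196, .mem 42, .mem 114, .eqn ([0], 2) ([2], 0), .mem 163, .mem 206, .eqn ([0, 2, 1], 0) ([1, 2], 0), .eqn ([0, 2, 1], 0) ([1, 2], 0), .pat 4, .eqn ([0], 2) ([2], 0), .mem 193, .mem 176, .mem 105, .mem 189, .eqn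 ([0], 2) ([2], 0), .mem 132, .pat 4, .mem 188, .mem 32, .mem 19, .mem 153, .eqn ([0], 2) ([2], 0), .mem 80, .mem 125, .eqn ([1], 2) ([2], 1), .pat 4, .mem 200, .eqn ([0, 2, 1], 0) ([1, 2], 0), .eqn ([0, 2, 1], 0) ([1, 2], 0), .mem 76, .mem 122, .pat 4, .mem 191, .mem 96, .mem 198, .mem 35, .eqn ([1], 2) ([2], 1), .mem 128, .eqn ([0], 2) ([2], 0), .mem 184, .eqn ([1], 2) ([2], 1), .eqn ([0, 2, 1], 0) ([1, 2], 0), .mem 151, .pat 4, .mem 65, .mem 91, .mem 15, .mem 121, .mem 37, .eqn ([0, 2, 1], 0) ([1, 2], 0), .mem 30]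

def level3 : Level where
  pre := [0, 1, 2]
  b := 29
  orbit := [29, 98, 242, 252, 253, 217, 314, 236, 121, 64, 322, 280, 70, 117, 301, 46, 279, 162, 47, 300, 90, 185, 52, 41, 154, 207, 165]
  steps := [(0, 0), (0, 9), (0, 11), (1, 9), (1, 10), (1, 11), (2, 9), (2, 10), (3, 10), (3, 11), (4, 9), (5, 9), (5, 10), (6, 9), (6, 10), (8, 9), (9, 9), (9, 10), (10, 9), (11, 9), (11, 10), (13, 10), (15, 9), (16, 9), (16, 10), (19, 10), (23, 10)]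
  gens := [9, 10, 11]
  terms := [([], 0), ([], 1), ([], 2), ([], 3), ([1], 0), ([2], 0), ([3], 0), ([2], 1), ([3], 1), ([3], 2), ([2, 1], 0), ([1, 2], 0), ([3, 2], 0), ([2, 3], 0), ([0, 2], 1), ([3, 2], 1), ([2, 3], 1), ([0, 3], 2), ([1, 3], 2), ([3, 2, 1], 0), ([3, 1, 2], 0), ([1, 3, 2], 0), ([1, 2, 3], 0), ([3, 0, 2], 1), ([0, 3, 2], 1), ([0, 2, 3], 1), ([1, 0, 3], 2), ([0, 1, 3], 2), ([0, 3, 1, 2], 0), ([2, 3, 1, 2], 0), ([0, 1, 3, 2], 0), ([2, 1, 3, 2], 0), ([2, 3, 0, 2], 1), ([2, 0, 3, 2], 1), ([2, 1, 0, 3], 2), ([2, 0, 1, 3], 2)]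
  pats := []
  wit := [.eqn ([3, 1], 0) ([1], 0), .eqn ([3, 1], 0) ([1], 0), .eqn ([3, 1], 0) ([1], 0), .eqn ([2], 3) ([3], 2), .eqn ([1], 3) ([3], 1), .eqn ([2], 3) ([3], 2), .eqn ([3, 1], 0) ([1], 0), .eqn ([0], 3) ([3], 0), .eqn ([2], 3) ([3], 2), .eqn ([3, 1], 0) ([1], 0), .eqn ([3, 1], 0) ([1], 0), .eqn ([3, 1], 0) ([1], 0), .eqn ([3, 1], 0) ([1], 0), .eqn ([0], 3) ([3], 0), .eqn ([0], 3) ([3], 0), .eqn ([3, 1], 0) ([1], 0), .eqn ([3, 1], 0) ([1], 0), .eqn ([3, 1], 0) ([1], 0), .eqn ([2], 3) ([3], 2), .eqn ([3, 1], 0) ([1], 0), .eqn ([0], 3) ([3], 0), .eqn ([3, 1], 0) ([1], 0), .eqn ([3, 1], 0) ([1], 0), .eqn ([3, 1], 0) ([1], 0), .eqn ([3, 1], 0) ([1], 0), .eqn ([3, 1], 0) ([1], 0), .eqn ([3, 1], 0) ([1], 0), .eqn ([3, 1], 0) ([1], 0), .eqn ([0], 3) ([3], 0), .mem 0, .eqn ([3, 1], 0) ([1], 0), .eqn ([3, 1], 0) ([1], 0), .eqn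 ([3, 1], 0) ([1], 0), .eqn ([3, 1], 0) ([1], 0), .eqn ([3, 1], 0) ([1], 0), .eqn ([0], 3) ([3], 0), .eqn ([3, 1], 0) ([1], 0), .eqn ([1], 3) ([3], 1), .eqn ([3, 1], 0) ([1], 0), .eqn ([3, 1], 0) ([1], 0), .eqn ([3, 1], 0) ([1], 0), .mem 23, .eqn ([0], 3) ([3], 0), .eqn ([3, 1], 0) ([1], 0), .eqn ([3, 1], 0) ([1], 0), .eqn ([1], 3) ([3], 1), .mem 15, .mem 18, .eqn ([3, 1], 0) ([1], 0), .eqn ([3, 1], 0) ([1], 0), .eqn ([3, 1], 0) ([1], 0), .eqn ([2], 3) ([3], 2), .mem 22, .eqn ([2], 3) ([3], 2), .eqn ([3, 1], 0) ([1], 0), .eqn ([3, 1], 0) ([1], 0), .eqn ([3, 1], 0) ([1], 0), .eqn ([1], 3) ([3], 1), .eqn ([3, 1], 0) ([1], 0), .eqn ([3, 1], 0) ([1], 0), .eqn ([2], 3) ([3], 2), .eqn ([3, 1], 0) ([1], 0), .eqn ([1], 3) ([3], 1), .eqn ([2], 3) ([3], 2), .mem 9, .eqn ([3, 1], 0) ([1], 0), .eqn ([3, 1], 0) ([1], 0), .eqn ([3, 1], 0) ([1],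 0), .eqn ([3, 1], 0) ([1], 0), .eqn ([3, 1], 0) ([1], 0), .mem 12, .eqn ([3, 1], 0) ([1], 0), .eqn ([3, 1], 0) ([1], 0), .eqn ([3, 1], 0) ([1], 0), .eqn ([0], 3) ([3], 0), .eqn ([2], 3) ([3], 2), .eqn ([3, 1], 0) ([1], 0), .eqn ([3, 1], 0) ([1], 0), .eqn ([3, 1], 0) ([1], 0), .eqn ([0], 3) ([3], 0), .eqn ([1], 3) ([3], 1), .eqn ([3, 1], 0) ([1], 0), .eqn ([3, 1], 0) ([1], 0), .eqn ([3, 1], 0) ([1], 0), .eqn ([3, 1], 0) ([1], 0), .eqn ([3, 1], 0) ([1], 0), .eqn ([1], 3) ([3], 1), .eqn ([3, 1], 0) ([1], 0), .eqn ([3, 1], 0) ([1], 0), .eqn ([0], 3) ([3], 0), .mem 20, .eqn ([2], 3) ([3], 2), .eqn ([3, 1], 0) ([1], 0), .eqn ([3, 1], 0) ([1], 0), .eqn ([1], 3) ([3], 1), .eqn ([3, 1], 0) ([1], 0), .eqn ([3, 1], 0) ([1], 0), .eqn ([1], 3) ([3], 1), .mem 1, .eqn ([3, 1], 0) ([1], 0), .eqn ([3, 1], 0) ([1], 0), .eqn ([3, 1], 0) ([1], 0), .eqn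 ([3, 1], 0) ([1], 0), .eqn ([3, 1], 0) ([1], 0), .eqn ([3, 1], 0) ([1], 0), .eqn ([3, 1], 0) ([1], 0), .eqn ([3, 1], 0) ([1], 0), .eqn ([2], 3) ([3], 2), .eqn ([3, 1], 0) ([1], 0), .eqn ([3, 1], 0) ([1], 0), .eqn ([3, 1], 0) ([1], 0), .eqn ([3, 1], 0) ([1], 0), .eqn ([3, 1], 0) ([1], 0), .eqn ([0], 3) ([3], 0), .eqn ([1], 3) ([3], 1), .eqn ([0], 3) ([3], 0), .eqn ([3, 1], 0) ([1], 0), .mem 13, .eqn ([2], 3) ([3], 2), .eqn ([0], 3) ([3], 0), .eqn ([3, 1], 0) ([1], 0), .mem 8, .eqn ([3, 1], 0) ([1], 0), .eqn ([3, 1], 0) ([1], 0), .eqn ([3, 1], 0) ([1], 0), .eqn ([3, 1], 0) ([1], 0), .eqn ([3, 1], 0) ([1], 0), .eqn ([3, 1], 0) ([1], 0), .eqn ([3, 1], 0) ([1], 0), .eqn ([3, 1], 0) ([1], 0), .eqn ([3, 1], 0) ([1], 0), .eqn ([3, 1], 0) ([1], 0), .eqn ([3, 1], 0) ([1], 0), .eqn ([3, 1], 0) ([1], 0), .eqn ([3, 1], 0) ([1], 0), .eqn ([3, 1],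 0) ([1], 0), .eqn ([0], 3) ([3], 0), .eqn ([3, 1], 0) ([1], 0), .eqn ([0], 3) ([3], 0), .eqn ([0], 3) ([3], 0), .eqn ([2], 3) ([3], 2), .eqn ([3, 1], 0) ([1], 0), .eqn ([2], 3) ([3], 2), .eqn ([3, 1], 0) ([1], 0), .eqn ([3, 1], 0) ([1], 0), .eqn ([3, 1], 0) ([1], 0), .eqn ([3, 1], 0) ([1], 0), .eqn ([3, 1], 0) ([1], 0), .eqn ([1], 3) ([3], 1), .eqn ([3, 1], 0) ([1], 0), .eqn ([3, 1], 0) ([1], 0), .eqn ([3, 1], 0) ([1], 0), .eqn ([1], 3) ([3], 1), .eqn ([3, 1], 0) ([1], 0), .mem 24, .eqn ([3, 1], 0) ([1], 0), .eqn ([1], 3) ([3], 1), .eqn ([3, 1], 0) ([1], 0), .eqn ([3, 1], 0) ([1], 0), .eqn ([3, 1], 0) ([1], 0), .eqn ([3, 1], 0) ([1], 0), .eqn ([3, 1], 0) ([1], 0), .mem 17, .eqn ([1], 0) ([], 3), .eqn ([3, 1], 0) ([1], 0), .mem 26, .eqn ([3, 1], 0) ([1], 0), .eqn ([3, 1], 0) ([1], 0), .eqn ([3, 1], 0) ([1], 0), .eqn ([2], 3) ([3],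 2), .eqn ([3, 1], 0) ([1], 0), .eqn ([3, 1], 0) ([1], 0), .eqn ([2], 3) ([3], 2), .eqn ([3, 1], 0) ([1], 0), .eqn ([0], 3) ([3], 0), .eqn ([3, 1], 0) ([1], 0), .eqn ([3, 1], 0) ([1], 0), .eqn ([3, 1], 0) ([1], 0), .eqn ([2], 3) ([3], 2), .eqn ([3, 1], 0) ([1], 0), .eqn ([3, 1], 0) ([1], 0), .eqn ([3, 1], 0) ([1], 0), .eqn ([3, 1], 0) ([1], 0), .eqn ([3, 1], 0) ([1], 0), .eqn ([3, 1], 0) ([1], 0), .mem 21, .eqn ([0], 3) ([3], 0), .eqn ([3, 1], 0) ([1], 0), .eqn ([3, 1], 0) ([1], 0), .eqn ([1], 3) ([3], 1), .eqn ([3, 1], 0) ([1], 0), .eqn ([3, 1], 0) ([1], 0), .eqn ([3, 1], 0) ([1], 0), .eqn ([3, 1], 0) ([1], 0), .eqn ([3, 1], 0) ([1], 0), .eqn ([3, 1], 0) ([1], 0), .eqn ([3, 1], 0) ([1], 0), .eqn ([3, 1], 0) ([1], 0), .eqn ([1], 3) ([3], 1), .eqn ([2], 3) ([3], 2), .eqn ([1], 3) ([3], 1), .eqn ([1], 3) ([3], 1), .eqn ([3, 1], 0) ([1],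 0), .eqn ([3, 1], 0) ([1], 0), .eqn ([0], 3) ([3], 0), .eqn ([3, 1], 0) ([1], 0), .eqn ([3, 1], 0) ([1], 0), .mem 25, .eqn ([3, 1], 0) ([1], 0), .eqn ([3, 1], 0) ([1], 0), .eqn ([3, 1], 0) ([1], 0), .eqn ([3, 1], 0) ([1], 0), .eqn ([3, 1], 0) ([1], 0), .eqn ([3, 1], 0) ([1], 0), .eqn ([3, 1], 0) ([1], 0), .eqn ([3, 1], 0) ([1], 0), .eqn ([3, 1], 0) ([1], 0), .mem 5, .eqn ([3, 1], 0) ([1], 0), .eqn ([3, 1], 0) ([1], 0), .eqn ([2], 3) ([3], 2), .eqn ([2], 3) ([3], 2), .eqn ([3, 1], 0) ([1], 0), .eqn ([3, 1], 0) ([1], 0), .eqn ([3, 1], 0) ([1], 0), .eqn ([3, 1], 0) ([1], 0), .eqn ([3, 1], 0) ([1], 0), .eqn ([3, 1], 0) ([1], 0), .eqn ([3, 1], 0) ([1], 0), .eqn ([1], 3) ([3], 1), .eqn ([3, 1], 0) ([1], 0), .eqn ([3, 1], 0) ([1], 0), .eqn ([3, 1], 0) ([1], 0), .eqn ([1], 3) ([3], 1), .eqn ([3, 1], 0) ([1], 0), .eqn ([2], 3) ([3], 2), .mem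 7, .eqn ([3, 1], 0) ([1], 0), .eqn ([3, 1], 0) ([1], 0), .eqn ([3, 1], 0) ([1], 0), .eqn ([3, 1], 0) ([1], 0), .eqn ([3, 1], 0) ([1], 0), .mem 2, .eqn ([3, 1], 0) ([1], 0), .eqn ([3, 1], 0) ([1], 0), .eqn ([3, 1], 0) ([1], 0), .eqn ([2], 3) ([3], 2), .eqn ([2], 3) ([3], 2), .eqn ([3, 1], 0) ([1], 0), .eqn ([1], 3) ([3], 1), .eqn ([3, 1], 0) ([1], 0), .eqn ([3, 1], 0) ([1], 0), .mem 3, .mem 4, .eqn ([3, 1], 0) ([1], 0), .eqn ([3, 1], 0) ([1], 0), .eqn ([3, 1], 0) ([1], 0), .eqn ([1], 3) ([3], 1), .eqn ([3, 1], 0) ([1], 0), .eqn ([3, 1], 0) ([1], 0), .eqn ([0], 3) ([3], 0), .eqn ([1], 3) ([3], 1), .eqn ([1], 3) ([3], 1), .eqn ([3, 1], 0) ([1], 0), .eqn ([3, 1], 0) ([1], 0), .eqn ([0], 3) ([3], 0), .eqn ([3, 1], 0) ([1], 0), .eqn ([3, 1], 0) ([1], 0), .eqn ([1], 3) ([3], 1), .eqn ([3, 1], 0) ([1], 0), .eqn ([0], 3) ([3], 0), .eqn ([3,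 1], 0) ([1], 0), .eqn ([3, 1], 0) ([1], 0), .eqn ([2], 3) ([3], 2), .eqn ([2], 3) ([3], 2), .eqn ([2], 3) ([3], 2), .eqn ([0], 3) ([3], 0), .eqn ([3, 1], 0) ([1], 0), .eqn ([3, 1], 0) ([1], 0), .mem 16, .mem 11, .eqn ([3, 1], 0) ([1], 0), .eqn ([0], 3) ([3], 0), .eqn ([3, 1], 0) ([1], 0), .eqn ([3, 1], 0) ([1], 0), .eqn ([3, 1], 0) ([1], 0), .eqn ([3, 1], 0) ([1], 0), .eqn ([0], 3) ([3], 0), .eqn ([3, 1], 0) ([1], 0), .eqn ([3, 1], 0) ([1], 0), .eqn ([3, 1], 0) ([1], 0), .eqn ([3, 1], 0) ([1], 0), .eqn ([3, 1], 0) ([1], 0), .eqn ([3, 1], 0) ([1], 0), .eqn ([0], 3) ([3], 0), .eqn ([3, 1], 0) ([1], 0), .eqn ([3, 1], 0) ([1], 0), .eqn ([1], 3) ([3], 1), .eqn ([3, 1], 0) ([1], 0), .eqn ([3, 1], 0) ([1], 0), .mem 19, .mem 14, .eqn ([3, 1], 0) ([1], 0), .eqn ([3, 1], 0) ([1], 0), .eqn ([3, 1], 0) ([1], 0), .eqn ([3, 1], 0) ([1], 0), .eqn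 ([2], 3) ([3], 2), .eqn ([3, 1], 0) ([1], 0), .eqn ([3, 1], 0) ([1], 0), .eqn ([1], 3) ([3], 1), .eqn ([3, 1], 0) ([1], 0), .eqn ([0], 3) ([3], 0), .eqn ([3, 1], 0) ([1], 0), .eqn ([1], 3) ([3], 1), .mem 6, .eqn ([3, 1], 0) ([1], 0), .eqn ([3, 1], 0) ([1], 0), .eqn ([3, 1], 0) ([1], 0), .eqn ([3, 1], 0) ([1], 0), .eqn ([3, 1], 0) ([1], 0), .eqn ([3, 1], 0) ([1], 0), .eqn ([3, 1], 0) ([1], 0), .mem 10, .eqn ([3, 1], 0) ([1], 0)]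

def level4 : Level where
  pre := [0, 1, 2, 29]
  b := 3
  orbit := [3, 53]
  steps := [(0, 0), (0, 12)]
  gens := [12]
  terms := [([], 0), ([], 1), ([], 2), ([], 3), ([], 4), ([1], 0), ([2], 0), ([3], 0), ([4], 0), ([2], 1), ([3], 1), ([4], 1), ([3], 2), ([4], 3), ([2, 1], 0), ([4, 1], 0), ([1, 2], 0), ([3, 2], 0), ([4, 2], 0), ([2, 3], 0), ([4, 3], 0), ([1, 4], 0), ([3, 4], 0), ([0, 2], 1), ([3, 2], 1), ([4, 2], 1), ([2, 3], 1), ([4, 3], 1), ([0, 4], 1), ([3, 4], 1), ([0, 3], 2), ([1, 3], 2), ([4, 3], 2), ([0, 4], 3), ([1, 4], 3), ([3, 2, 1], 0), ([4, 2, 1], 0), ([3, 4, 1], 0), ([3, 1, 2], 0), ([4, 1, 2], 0), ([1, 3, 2], 0), ([4, 3, 2], 0), ([1, 4, 2], 0), ([3, 4, 2], 0), ([1, 2, 3], 0), ([4, 2, 3], 0), ([1, 4, 3], 0), ([2, 1, 4], 0), ([3, 1, 4], 0), ([1, 3, 4], 0), ([2, 3, 4], 0), ([3, 0, 2], 1), ([4, 0, 2], 1), ([0, 3, 2], 1),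 ([4, 3, 2], 1), ([0, 4, 2], 1), ([3, 4, 2], 1), ([0, 2, 3], 1), ([4, 2, 3], 1), ([0, 4, 3], 1), ([2, 0, 4], 1), ([3, 0, 4], 1), ([0, 3, 4], 1), ([2, 3, 4], 1), ([1, 0, 3], 2), ([4, 0, 3], 2), ([0, 1, 3], 2), ([4, 1, 3], 2), ([0, 4, 3], 2), ([1, 4, 3], 2), ([1, 0, 4], 3), ([2, 0, 4], 3), ([0, 1, 4], 3), ([2, 1, 4], 3), ([0, 4, 2, 1], 0), ([1, 4, 2, 1], 0), ([0, 3, 1, 2], 0), ([2, 3, 1, 2], 0), ([4, 3, 1, 2], 0), ([0, 4, 1, 2], 0), ([1, 4, 1, 2], 0), ([3, 4, 1, 2], 0), ([0, 1, 3, 2], 0), ([2, 1, 3, 2], 0), ([4, 1, 3, 2], 0), ([0, 4, 3, 2], 0), ([1, 4, 3, 2], 0), ([3, 4, 3, 2], 0), ([0, 1, 4, 2], 0), ([2, 1, 4, 2], 0), ([0, 3, 4, 2], 0), ([2, 3, 4, 2], 0), ([4, 1, 2, 3], 0), ([0, 4, 2, 3], 0), ([1, 4, 2, 3], 0), ([3, 4, 2, 3], 0), ([2, 1, 4, 3], 0), ([0, 2, 1, 4], 0), ([3, 2, 1, 4], 0), ([0, 3, 1, 4], 0), ([2, 3, 1, 4], 0), ([4, 3, 1,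 4], 0), ([0, 1, 3, 4], 0), ([2, 1, 3, 4], 0), ([4, 1, 3, 4], 0), ([0, 2, 3, 4], 0), ([1, 2, 3, 4], 0), ([2, 3, 0, 2], 1), ([4, 3, 0, 2], 1), ([1, 4, 0, 2], 1), ([3, 4, 0, 2], 1), ([2, 0, 3, 2], 1), ([4, 0, 3, 2], 1), ([0, 4, 3, 2], 1), ([1, 4, 3, 2], 1), ([3, 4, 3, 2], 1), ([1, 0, 4, 2], 1), ([3, 0, 4, 2], 1), ([0, 3, 4, 2], 1), ([1, 3, 4, 2], 1), ([2, 3, 4, 2], 1), ([1, 4, 2, 3], 1), ([3, 4, 2, 3], 1), ([1, 2, 0, 4], 1), ([3, 2, 0, 4], 1), ([4, 3, 0, 4], 1), ([4, 0, 3, 4], 1), ([1, 2, 3, 4], 1), ([2, 1, 0, 3], 2), ([4, 1, 0, 3], 2), ([1, 4, 0, 3], 2), ([3, 4, 0, 3], 2), ([2, 0, 1, 3], 2), ([4, 0, 1, 3], 2), ([0, 4, 1, 3], 2), ([3, 4, 1, 3], 2), ([3, 0, 4, 3], 2), ([3, 1, 4, 3], 2), ([2, 1, 0, 4], 3), ([4, 1, 0, 4], 3), ([1, 2, 0, 4], 3), ([3, 2, 0, 4], 3), ([2, 0, 1, 4], 3), ([4, 0, 1, 4], 3), ([0, 2, 1, 4], 3), ([3, 2, 1, 4], 3),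 ([3, 0, 4, 2, 1], 0), ([3, 1, 4, 2, 1], 0), ([4, 0, 3, 1, 2], 0), ([4, 2, 3, 1, 2], 0), ([0, 4, 3, 1, 2], 0), ([3, 4, 3, 1, 2], 0), ([1, 0, 4, 1, 2], 0), ([3, 0, 4, 1, 2], 0), ([0, 3, 4, 1, 2], 0), ([1, 3, 4, 1, 2], 0), ([2, 3, 4, 1, 2], 0), ([4, 0, 1, 3, 2], 0), ([4, 2, 1, 3, 2], 0), ([0, 4, 1, 3, 2], 0), ([1, 0, 4, 3, 2], 0), ([3, 0, 4, 3, 2], 0), ([0, 1, 4, 3, 2], 0), ([3, 1, 4, 3, 2], 0), ([1, 3, 4, 3, 2], 0), ([3, 0, 1, 4, 2], 0), ([3, 2, 1, 4, 2], 0), ([1, 2, 3, 4, 2], 0), ([0, 4, 1, 2, 3], 0), ([3, 4, 1, 2, 3], 0), ([1, 0, 4, 2, 3], 0), ([0, 1, 4, 2, 3], 0), ([2, 1, 4, 2, 3], 0), ([3, 1, 4, 2, 3], 0), ([1, 3, 4, 2, 3], 0), ([1, 0, 2, 1, 4], 0), ([3, 0, 2, 1, 4], 0), ([0, 3, 2, 1, 4], 0), ([1, 3, 2, 1, 4], 0), ([2, 3, 2, 1, 4], 0), ([2, 0, 3, 1, 4], 0), ([0, 2, 3, 1, 4], 0), ([4, 2, 3, 1, 4], 0), ([2, 0, 1, 3, 4], 0), ([0, 2,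 1, 3, 4], 0), ([1, 2, 1, 3, 4], 0), ([4, 2, 1, 3, 4], 0), ([1, 0, 2, 3, 4], 0), ([3, 0, 2, 3, 4], 0), ([0, 1, 2, 3, 4], 0), ([3, 1, 2, 3, 4], 0), ([4, 1, 2, 3, 4], 0), ([4, 2, 3, 0, 2], 1), ([0, 4, 3, 0, 2], 1), ([1, 4, 3, 0, 2], 1), ([3, 4, 3, 0, 2], 1), ([3, 1, 4, 0, 2], 1), ([0, 3, 4, 0, 2], 1), ([1, 3, 4, 0, 2], 1), ([2, 3, 4, 0, 2], 1), ([4, 2, 0, 3, 2], 1), ([0, 4, 0, 3, 2], 1), ([1, 4, 0, 3, 2], 1), ([3, 4, 0, 3, 2], 1), ([1, 0, 4, 3, 2], 1), ([2, 0, 4, 3, 2], 1), ([3, 0, 4, 3, 2], 1), ([0, 1, 4, 3, 2], 1), ([3, 1, 4, 3, 2], 1), ([0, 3, 4, 3, 2], 1), ([0, 3, 0, 4, 2], 1), ([0, 1, 3, 4, 2], 1), ([0, 1, 4, 2, 3], 1), ([0, 3, 4, 2, 3], 1), ([3, 1, 2, 0, 4], 1), ([4, 2, 1, 0, 3], 2), ([0, 1, 4, 0, 3], 2), ([3, 1, 4, 0, 3], 2), ([1, 3, 4, 0, 3], 2), ([4, 2, 0, 1, 3], 2), ([0, 4, 0, 1, 3], 2), ([3, 4, 0, 1, 3], 2), ([1, 0, 4, 1,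 3], 2), ([2, 0, 4, 1, 3], 2), ([1, 3, 0, 4, 3], 2), ([1, 2, 1, 0, 4], 3), ([3, 2, 1, 0, 4], 3), ([4, 2, 1, 0, 4], 3), ([0, 1, 2, 0, 4], 3), ([3, 1, 2, 0, 4], 3), ([4, 1, 2, 0, 4], 3), ([1, 3, 2, 0, 4], 3), ([0, 2, 0, 1, 4], 3), ([3, 2, 0, 1, 4], 3), ([4, 2, 0, 1, 4], 3), ([1, 0, 2, 1, 4], 3), ([3, 0, 2, 1, 4], 3), ([0, 3, 2, 1, 4], 3), ([1, 3, 0, 4, 2, 1], 0), ([2, 3, 0, 4, 2, 1], 0), ([4, 3, 0, 4, 2, 1], 0), ([2, 3, 1, 4, 2, 1], 0), ([4, 3, 1, 4, 2, 1], 0), ([0, 4, 0, 3, 1, 2], 0), ([1, 4, 0, 3, 1, 2], 0), ([3, 4, 0, 3, 1, 2], 0), ([0, 4, 2, 3, 1, 2], 0), ([3, 4, 2, 3, 1, 2], 0), ([2, 3, 4, 3, 1, 2], 0), ([2, 3, 0, 4, 1, 2], 0), ([4, 3, 0, 4, 1, 2], 0), ([1, 2, 3, 4, 1, 2], 0), ([0, 4, 0, 1, 3, 2], 0), ([1, 4, 0, 1, 3, 2], 0), ([3, 4, 0, 1, 3, 2], 0), ([0, 4, 2, 1, 3, 2], 0), ([3, 4, 2, 1, 3, 2], 0), ([2, 0, 4, 1, 3, 2], 0), ([0,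 1, 0, 4, 3, 2], 0), ([2, 1, 0, 4, 3, 2], 0), ([3, 1, 0, 4, 3, 2], 0), ([4, 1, 0, 4, 3, 2], 0), ([3, 0, 1, 4, 3, 2], 0), ([1, 3, 1, 4, 3, 2], 0), ([2, 3, 0, 1, 4, 2], 0), ([4, 3, 0, 1, 4, 2], 0), ([0, 3, 2, 1, 4, 2], 0), ([1, 3, 2, 1, 4, 2], 0), ([0, 1, 2, 3, 4, 2], 0), ([3, 1, 2, 3, 4, 2], 0), ([0, 1, 0, 4, 2, 3], 0), ([2, 1, 0, 4, 2, 3], 0), ([3, 1, 0, 4, 2, 3], 0), ([4, 1, 0, 4, 2, 3], 0), ([1, 3, 1, 4, 2, 3], 0), ([0, 1, 3, 4, 2, 3], 0), ([2, 1, 3, 4, 2, 3], 0), ([4, 1, 3, 4, 2, 3], 0), ([0, 3, 0, 2, 1, 4], 0), ([2, 3, 0, 2, 1, 4], 0), ([1, 0, 3, 2, 1, 4], 0), ([4, 1, 3, 2, 1, 4], 0), ([3, 2, 0, 3, 1, 4], 0), ([1, 4, 2, 3, 1, 4], 0), ([0, 2, 0, 1, 3, 4], 0), ([3, 0, 2, 1, 3, 4], 0), ([4, 0, 2, 1, 3, 4], 0), ([0, 1, 2, 1, 3, 4], 0), ([4, 1, 2, 1, 3, 4], 0), ([0, 4, 2, 1, 3, 4], 0), ([1, 4, 2, 1, 3, 4], 0), ([0, 1, 0, 2, 3, 4], 0),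 ([3, 0, 1, 2, 3, 4], 0), ([3, 4, 1, 2, 3, 4], 0), ([1, 0, 4, 3, 0, 2], 1), ([3, 0, 4, 3, 0, 2], 1), ([2, 1, 4, 3, 0, 2], 1), ([2, 3, 4, 3, 0, 2], 1), ([4, 3, 1, 4, 0, 2], 1), ([2, 1, 3, 4, 0, 2], 1), ([0, 4, 2, 0, 3, 2], 1), ([2, 1, 4, 0, 3, 2], 1), ([0, 3, 4, 0, 3, 2], 1), ([2, 1, 0, 4, 3, 2], 1), ([0, 3, 0, 4, 3, 2], 1), ([2, 3, 0, 4, 3, 2], 1), ([3, 0, 1, 4, 3, 2], 1), ([3, 0, 1, 4, 2, 3], 1), ([2, 0, 3, 4, 2, 3], 1), ([4, 0, 3, 4, 2, 3], 1), ([0, 4, 2, 1, 0, 3], 2), ([3, 4, 2, 1, 0, 3], 2), ([0, 4, 2, 0, 1, 3], 2), ([3, 4, 2, 0, 1, 3], 2), ([2, 1, 3, 0, 4, 3], 2), ([3, 4, 2, 1, 0, 4], 3), ([0, 4, 1, 2, 0, 4], 3), ([1, 4, 2, 0, 1, 4], 3), ([3, 4, 2, 0, 1, 4], 3), ([2, 0, 3, 2, 1, 4], 3), ([0, 2, 3, 0, 4, 2, 1], 0), ([2, 1, 4, 0, 3, 1, 2], 0), ([1, 3, 4, 0, 3, 1, 2], 0), ([2, 1, 4, 0, 1, 3, 2], 0)]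
  pats := []
  wit := [.eqn ([4], 2) ([], 2), .eqn ([4], 2) ([], 2), .eqn ([2, 3, 0, 4], 1) ([0, 3, 4, 2], 1), .mem 0, .eqn ([4], 2) ([], 2), .eqn ([4, 3, 2, 1], 0) ([3, 2, 1], 0), .eqn ([4], 2) ([], 2), .eqn ([4], 2) ([], 2), .eqn ([3, 1, 4, 2], 0) ([1, 4, 2], 0), .eqn ([4], 2) ([], 2), .eqn ([4], 2) ([], 2), .eqn ([4], 2) ([], 2), .eqn ([4], 2) ([], 2), .eqn ([4], 2) ([], 2), .eqn ([4], 2) ([], 2), .eqn ([4], 2) ([], 2), .eqn ([4], 2) ([], 2), .eqn ([4], 2) ([], 2), .eqn ([4, 3, 2, 1], 0) ([3, 2, 1], 0), .eqn ([4], 2) ([], 2), .eqn ([4], 2) ([], 2), .eqn ([4], 2) ([], 2), .eqn ([4], 2) ([], 2), .eqn ([4], 2) ([], 2), .eqn ([4], 2) ([], 2), .eqn ([4], 2) ([], 2), .eqn ([4], 2) ([], 2), .eqn ([4], 2) ([], 2), .eqn ([4], 2) ([], 2), .eqn ([4], 2) ([], 2), .eqn ([4], 2) ([], 2), .eqn ([4], 2) ([], 2), .eqn ([4], 2) ([], 2), .eqn ([4],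 2) ([], 2), .eqn ([4], 2) ([], 2), .eqn ([4], 2) ([], 2), .eqn ([4], 2) ([], 2), .eqn ([4], 2) ([], 2), .eqn ([4], 2) ([], 2), .eqn ([4], 2) ([], 2), .eqn ([4], 2) ([], 2), .eqn ([4], 2) ([], 2), .eqn ([4], 2) ([], 2), .eqn ([4], 2) ([], 2), .eqn ([4], 2) ([], 2), .eqn ([4], 2) ([], 2), .eqn ([4], 2) ([], 2), .eqn ([4], 2) ([], 2), .eqn ([4], 2) ([], 2), .eqn ([4], 2) ([], 2), .eqn ([4], 2) ([], 2), .eqn ([3, 1, 4, 2], 0) ([1, 4, 2], 0), .eqn ([4], 2) ([], 2), .mem 1, .eqn ([4], 2) ([], 2), .eqn ([4], 2) ([], 2), .eqn ([4], 2) ([], 2), .eqn ([4], 2) ([], 2), .eqn ([4], 2) ([], 2), .eqn ([4], 2) ([], 2), .eqn ([2, 3, 0, 4], 1) ([0, 3, 4, 2], 1), .eqn ([4], 2) ([], 2), .eqn ([4], 2) ([], 2), .eqn ([3, 1, 4, 2], 0) ([1, 4, 2], 0), .eqn ([4], 2) ([], 2), .eqn ([4], 2) ([], 2), .eqn ([4], 2) ([], 2), .eqn ([4], 2) ([], 2), .eqn ([4], 2)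 ([], 2), .eqn ([4], 2) ([], 2), .eqn ([4], 2) ([], 2), .eqn ([4], 2) ([], 2), .eqn ([4], 2) ([], 2), .eqn ([4], 2) ([], 2), .eqn ([4], 2) ([], 2), .eqn ([3, 1, 4, 2], 0) ([1, 4, 2], 0), .eqn ([4], 2) ([], 2), .eqn ([4], 2) ([], 2), .eqn ([4], 2) ([], 2), .eqn ([4], 2) ([], 2), .eqn ([4], 2) ([], 2), .eqn ([4], 2) ([], 2), .eqn ([4], 2) ([], 2), .eqn ([4], 2) ([], 2), .eqn ([4], 2) ([], 2), .eqn ([4], 2) ([], 2), .eqn ([4], 2) ([], 2), .eqn ([4], 2) ([], 2), .eqn ([4], 2) ([], 2), .eqn ([4], 2) ([], 2), .eqn ([4], 2) ([], 2), .eqn ([4, 3, 2, 1], 0) ([3, 2, 1], 0), .eqn ([4], 2) ([], 2), .eqn ([4], 2) ([], 2), .eqn ([4], 2) ([], 2), .eqn ([4], 2) ([], 2), .eqn ([4], 2) ([], 2), .eqn ([4], 2) ([], 2), .eqn ([4], 2) ([], 2), .eqn ([4], 2) ([], 2), .eqn ([4], 2) ([], 2), .eqn ([4], 2) ([], 2), .eqn ([4], 2) ([], 2), .eqn ([4], 2) ([],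 2), .eqn ([4], 2) ([], 2), .eqn ([4], 2) ([], 2), .eqn ([4], 2) ([], 2), .eqn ([2, 3, 0, 4], 1) ([0, 3, 4, 2], 1), .eqn ([4], 2) ([], 2), .eqn ([4], 2) ([], 2), .eqn ([4], 2) ([], 2), .eqn ([4], 2) ([], 2), .eqn ([4], 2) ([], 2), .eqn ([4], 2) ([], 2), .eqn ([4], 2) ([], 2), .eqn ([4], 2) ([], 2), .eqn ([4], 2) ([], 2), .eqn ([4], 2) ([], 2), .eqn ([3, 1, 4, 2], 0) ([1, 4, 2], 0), .eqn ([4], 2) ([], 2), .eqn ([4], 2) ([], 2), .eqn ([4], 2) ([], 2), .eqn ([4], 2) ([], 2), .eqn ([4], 2) ([], 2), .eqn ([4], 2) ([], 2), .eqn ([4], 2) ([], 2), .eqn ([4], 2) ([], 2), .eqn ([4], 2) ([], 2), .eqn ([4], 2) ([], 2), .eqn ([4], 2) ([], 2), .eqn ([4], 2) ([], 2), .eqn ([4], 2) ([], 2), .eqn ([4], 2) ([], 2), .eqn ([4], 2) ([], 2), .eqn ([4], 2) ([], 2), .eqn ([4], 2) ([], 2), .eqn ([4], 2) ([], 2), .eqn ([4], 2) ([], 2), .eqn ([4], 2) ([], 2),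 .eqn ([4], 2) ([], 2), .eqn ([2, 3, 0, 4], 1) ([0, 3, 4, 2], 1), .eqn ([4], 2) ([], 2), .eqn ([2, 3, 0, 4], 1) ([0, 3, 4, 2], 1), .eqn ([4], 2) ([], 2), .eqn ([4], 2) ([], 2), .eqn ([4], 2) ([], 2), .eqn ([4], 2) ([], 2), .eqn ([4], 2) ([], 2), .eqn ([4], 2) ([], 2), .eqn ([4], 2) ([], 2), .eqn ([4], 2) ([], 2), .eqn ([4], 2) ([], 2), .eqn ([4], 2) ([], 2), .eqn ([4], 2) ([], 2), .eqn ([4], 2) ([], 2), .eqn ([4], 2) ([], 2), .eqn ([4], 2) ([], 2), .eqn ([4], 2) ([], 2), .eqn ([4], 2) ([], 2), .eqn ([4], 2) ([], 2), .eqn ([4], 2) ([], 2), .eqn ([4], 2) ([], 2), .eqn ([4], 2) ([], 2), .eqn ([4], 2) ([], 2), .eqn ([4], 2) ([], 2), .eqn ([4], 2) ([], 2), .eqn ([4], 2) ([], 2), .eqn ([4], 2) ([], 2), .eqn ([4], 2) ([], 2), .eqn ([2, 3], 0) ([4], 1), .eqn ([4], 2) ([], 2), .eqn ([4], 2) ([], 2), .eqn ([4, 3, 2, 1], 0) ([3, 2, 1], 0), .eqn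 ([4], 2) ([], 2), .eqn ([4], 2) ([], 2), .eqn ([4], 2) ([], 2), .eqn ([4], 2) ([], 2), .eqn ([4], 2) ([], 2), .eqn ([4, 3, 2, 1], 0) ([3, 2, 1], 0), .eqn ([4], 2) ([], 2), .eqn ([4], 2) ([], 2), .eqn ([4], 2) ([], 2), .eqn ([4], 2) ([], 2), .eqn ([4], 2) ([], 2), .eqn ([4], 2) ([], 2), .eqn ([4], 2) ([], 2), .eqn ([4], 2) ([], 2), .eqn ([4], 2) ([], 2), .eqn ([4], 2) ([], 2), .eqn ([4], 2) ([], 2), .eqn ([4], 2) ([], 2), .eqn ([4], 2) ([], 2), .eqn ([4], 2) ([], 2), .eqn ([4], 2) ([], 2), .eqn ([4], 2) ([], 2), .eqn ([4], 2) ([], 2), .eqn ([4], 2) ([], 2), .eqn ([4], 2) ([], 2), .eqn ([4], 2) ([], 2), .eqn ([3, 1, 4, 2], 0) ([1, 4, 2], 0), .eqn ([4], 2) ([], 2), .eqn ([4], 2) ([], 2), .eqn ([4], 2) ([], 2), .eqn ([4], 2) ([], 2), .eqn ([4], 2) ([], 2), .eqn ([4], 2) ([], 2), .eqn ([4], 2) ([], 2), .eqn ([4], 2) ([], 2), .eqn ([4],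 2) ([], 2), .eqn ([4], 2) ([], 2), .eqn ([4], 2) ([], 2), .eqn ([4], 2) ([], 2), .eqn ([4], 2) ([], 2), .eqn ([4], 2) ([], 2), .eqn ([4], 2) ([], 2), .eqn ([4], 2) ([], 2), .eqn ([4], 2) ([], 2), .eqn ([4], 2) ([], 2), .eqn ([4], 2) ([], 2), .eqn ([4], 2) ([], 2), .eqn ([3, 1, 4, 2], 0) ([1, 4, 2], 0), .eqn ([2, 3, 0, 4], 1) ([0, 3, 4, 2], 1), .eqn ([4], 2) ([], 2), .eqn ([4], 2) ([], 2), .eqn ([4], 2) ([], 2), .eqn ([4], 2) ([], 2), .eqn ([4], 2) ([], 2), .eqn ([4], 2) ([], 2), .eqn ([4], 2) ([], 2), .eqn ([4], 2) ([], 2), .eqn ([4], 2) ([], 2), .eqn ([4], 2) ([], 2), .eqn ([4], 2) ([], 2), .eqn ([4], 2) ([], 2), .eqn ([4], 2) ([], 2), .eqn ([4, 3, 2, 1], 0) ([3, 2, 1], 0), .eqn ([4], 2) ([], 2), .eqn ([4], 2) ([], 2), .eqn ([4], 2) ([], 2), .eqn ([4], 2) ([], 2), .eqn ([4], 2) ([], 2), .eqn ([4], 2) ([], 2), .eqn ([4], 2) ([], 2),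 .eqn ([4], 2) ([], 2), .eqn ([4], 2) ([], 2), .eqn ([4], 2) ([], 2), .eqn ([3, 1, 4, 2], 0) ([1, 4, 2], 0), .eqn ([2, 3, 0, 4], 1) ([0, 3, 4, 2], 1), .eqn ([4], 2) ([], 2), .eqn ([4], 2) ([], 2), .eqn ([4], 2) ([], 2), .eqn ([4], 2) ([], 2), .eqn ([4], 2) ([], 2), .eqn ([4], 2) ([], 2), .eqn ([4], 2) ([], 2), .eqn ([4], 2) ([], 2), .eqn ([4], 2) ([], 2), .eqn ([4], 2) ([], 2), .eqn ([4], 2) ([], 2), .eqn ([4], 2) ([], 2), .eqn ([4], 2) ([], 2), .eqn ([4], 2) ([], 2), .eqn ([4], 2) ([], 2), .eqn ([4], 2) ([], 2), .eqn ([4], 2) ([], 2), .eqn ([4], 2) ([], 2), .eqn ([4], 2) ([], 2), .eqn ([4], 2) ([], 2), .eqn ([4], 2) ([], 2), .eqn ([4], 2) ([], 2), .eqn ([4], 2) ([], 2), .eqn ([4], 2) ([], 2), .eqn ([4], 2) ([], 2), .eqn ([4, 3, 2, 1], 0) ([3, 2, 1], 0), .eqn ([4, 3, 2, 1], 0) ([3, 2, 1], 0), .eqn ([2, 3, 0, 4], 1) ([0, 3, 4, 2], 1),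 .eqn ([4], 2) ([], 2), .eqn ([4], 2) ([], 2), .eqn ([4], 2) ([], 2), .eqn ([4], 2) ([], 2), .eqn ([4], 2) ([], 2), .eqn ([4], 2) ([], 2), .eqn ([4], 2) ([], 2), .eqn ([4], 2) ([], 2), .eqn ([4], 2) ([], 2), .eqn ([4], 2) ([], 2), .eqn ([4], 2) ([], 2), .eqn ([4], 2) ([], 2), .eqn ([4], 2) ([], 2), .eqn ([4], 2) ([], 2), .eqn ([4], 2) ([], 2), .eqn ([4], 2) ([], 2), .eqn ([4], 2) ([], 2), .eqn ([4], 2) ([], 2), .eqn ([4], 2) ([], 2), .eqn ([4], 2) ([], 2), .eqn ([4], 2) ([], 2), .eqn ([4], 2) ([], 2), .eqn ([4], 2) ([], 2), .eqn ([4], 2) ([], 2), .eqn ([4], 2) ([], 2), .eqn ([4], 2) ([], 2), .eqn ([4], 2) ([], 2), .eqn ([4], 2) ([], 2), .eqn ([4], 2) ([], 2), .eqn ([4], 2) ([], 2), .eqn ([2, 3, 0, 4], 1) ([0, 3, 4, 2], 1), .eqn ([4], 2) ([], 2), .eqn ([4], 2) ([], 2), .eqn ([4], 2) ([], 2), .eqn ([4], 2) ([], 2), .eqn ([4], 2) ([],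 2), .eqn ([4], 2) ([], 2), .eqn ([4], 2) ([], 2), .eqn ([4], 2) ([], 2), .eqn ([4], 2) ([], 2), .eqn ([4], 2) ([], 2), .eqn ([4], 2) ([], 2), .eqn ([4], 2) ([], 2), .eqn ([4], 2) ([], 2), .eqn ([4], 2) ([], 2), .eqn ([4], 2) ([], 2), .eqn ([4], 2) ([], 2), .eqn ([4], 2) ([], 2)]

def kerPt : Nat := 324
def kerCand : List Nat := [0, 6522, 8296]
def kerTest : List Nat := [44, 3, 5, 9]


/-- For each orbit outside: a representative, a further one and the terms of the ten generators. -/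
def bigData : List (Nat × Option (Nat × Nat) × List (List Nat × Nat)) := [
  (324, none, [([18, 58, 8, 324, 12], 5), ([6, 20, 12, 324, 15], 8), ([18, 324, 12, 2, 0, 324, 12], 3), ([68, 324, 12, 6, 324, 18], 44), ([58, 18, 324, 12], 0), ([8, 58, 77, 12, 324], 18), ([67, 0, 12, 324, 6], 58), ([324, 15, 68, 6, 324, 15, 6], 3), ([6, 68, 324, 12], 8), ([17, 5, 68, 324, 6], 7)]),
  (326, some (4, 325), [([325, 8, 15, 326], 68), ([6, 4, 325, 326, 18, 6], 44), ([8, 325, 14, 326], 68), ([9, 15, 326, 68], 5), ([17, 325, 326, 77], 44), ([17, 326, 68, 325], 58), ([18, 325, 8, 326, 17], 9), ([0, 68, 325, 77, 326], 20), ([8, 6, 58, 325, 326], 17), ([77, 7, 325, 326, 2], 4)]),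
  (328, some (1, 327), [([0, 68, 327, 328], 77), ([327, 4, 328, 327], 44), ([7, 4, 328, 327], 2), ([67, 327, 6, 2, 328], 44), ([15, 327, 3, 328, 8], 67), ([68, 7, 328, 327, 7], 9), ([0, 327, 328, 15, 327], 7), ([2, 327, 5, 12], 3), ([58, 8, 67, 327], 328), ([0, 6, 328, 327], 5)]),
  (329, some (5, 330), [([18, 329, 2, 330], 77), ([329, 330, 67, 12, 329], 9), ([67, 329, 77], 12), ([5, 4, 330, 17, 329], 9), ([330, 20, 68, 329, 12], 3), ([12, 6, 330, 329, 17], 5), ([77, 68, 329, 330], 67), ([5, 0, 330, 9, 329], 44), ([18, 15, 330, 329], 12), ([329, 330, 58, 12], 18)]),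
  (331, some (1, 332), [([331, 332, 331, 58], 3), ([6, 4, 331, 77, 332], 18), ([77, 332, 331, 7, 0], 5), ([20, 67, 18, 331, 332], 9), ([2, 331, 58, 332], 20), ([12, 18, 332, 331, 68], 2), ([58, 332, 5, 331], 17), ([7, 68, 331], 58), ([0, 2, 331, 58, 332], 44), ([18, 4, 332, 0, 331], 44)])]

def outside : Gen × Nat := (.a, 0)

end CfsgLib.SporadicB.Fi23Derived
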