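import Cfsg.Prelude.Def_Spor_Fi23

/-! Points of transpositions with words for them. -/

set_option autoImplicit false
set_option maxRecDepth 100000
set_option linter.all false

namespace CfsgLib.SporadicB.Fi23Derived

open Cfsg.Spor.Fi23 (Gen)

/-- A point, a path to it and the generator at its start. -/
def ptTab : List (Nat × List Gen × Gen) := [
  (210, [.i, .e, .f, .d, .e, .c, .d, .h, .j, .g, .f, .e, .d, .c], .b),
  (420, [.j, .g, .f, .e, .d, .h, .i, .e, .d, .h, .f, .g, .e, .f, .d, .e, .c, .d, .h, .j, .g, .f, .e, .d, .c, .b], .a),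
  (466, [.d, .e, .b, .c, .d, .h, .i, .f, .e, .d, .h, .g, .f, .e, .d, .c], .b),
  (482, [.b, .c, .d, .h, .i, .e, .d, .h, .g, .f, .e, .d], .c),
  (578, [.h, .i, .e, .f, .d, .e, .c, .d, .h, .g, .f, .e, .d, .c, .b], .a),
  (744, [.d, .e, .b, .c, .d, .h, .g, .f, .e, .d, .c, .b], .a),
  (756, [.d, .h, .i, .g, .f, .d, .e, .b, .c, .d, .h, .j, .g, .f, .e, .d, .c, .b], .a),
  (903, [.c, .d, .h, .i, .h, .f, .d, .e, .c, .d, .h, .g, .f, .e, .d, .c], .b),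
  (964, [.e, .c, .d, .h, .i, .f, .e, .c, .d, .h, .j, .g, .f, .e, .d, .c], .b),
  (990, [.h, .i, .f, .e, .d, .h, .g, .f, .e, .d, .c, .b], .a),
  (1030, [.f, .e, .d, .h, .i, .h, .g, .e, .f, .c, .d, .e, .b, .c, .d, .h, .j, .g, .f, .e, .d, .c, .b], .a),
  (1147, [.f, .e, .d, .h, .i, .h, .f, .d, .e, .c, .d, .h, .j, .g, .f, .e, .d, .c, .b], .a),
  (1148, [.e, .d, .h, .i, .g, .f, .e, .c, .d, .h, .j, .g, .f, .e, .d, .c, .b], .a),
  (1298, [.h, .f, .d, .e, .c, .d, .h, .i, .f, .e, .c, .d, .h, .j, .g, .f, .e, .d, .c], .b),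
  (1378, [.e, .d, .h, .c, .d, .e, .b, .c, .d, .h, .g, .f, .e, .d, .c, .b], .a),
  (1569, [.e, .d, .h, .i, .h, .d, .e, .c, .d, .h, .g, .f, .e, .d, .c, .b], .a),
  (1643, [.j, .g, .f, .e, .c, .d, .h, .i, .h, .g, .e, .f, .d, .e, .c, .d, .h, .j, .g, .f, .e, .d, .c, .b], .a),
  (1720, [.e, .d, .h, .i, .h, .d, .e, .c, .d, .h, .f, .e, .d, .c], .b),
  (1737, [.f, .e, .d, .h, .i, .d, .e, .c, .d, .h, .j, .g, .f, .e, .d, .c], .b),
  (1817, [.h, .i, .d, .h, .e, .f, .d, .e, .c, .d, .h, .i, .g, .f, .e, .d, .h, .j, .g, .f, .e, .d, .c, .b], .a),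
  (1866, [.e, .b, .c, .d, .h, .i, .d, .e, .c, .d, .h, .g, .f, .e, .d, .c], .b),
  (2000, [.g, .f, .e, .d, .h, .i, .h, .f, .d, .e, .b, .c, .d, .h, .j, .g, .f, .e, .d, .c, .b], .a),
  (2017, [.h, .c, .d, .e, .b, .c, .d, .h, .i, .f, .e, .d, .h, .g, .f, .e, .d, .c, .b], .a),
  (2021, [.g, .f, .e, .d, .h, .i, .h, .e, .f, .d, .e, .b, .c, .d, .h, .g, .f, .e, .d, .c, .b], .a),
  (2046, [.g, .f, .e, .b, .c, .d, .h, .i, .h, .g, .e, .f, .d, .e, .b, .c, .d, .h, .j, .g, .f, .e, .d, .c, .b], .a),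
  (2249, [.f, .c, .d, .e, .b, .c, .d, .h, .i, .h, .g, .e, .f, .d, .e, .c, .d, .h, .j, .g, .f, .e, .d, .c, .b], .a),
  (2274, [.b, .c, .d, .h, .e, .f, .d, .e, .b, .c, .d, .h, .i, .g, .f, .e, .d, .h, .j, .g, .f, .e, .d, .c, .b], .a),
  (2452, [.h, .g, .f, .d, .e, .c, .d, .h, .i, .g, .e, .f, .d, .e, .c, .d, .h, .j, .g, .f, .e, .d, .c], .b),
  (2641, [.g, .f, .e, .b, .c, .d, .h, .i, .f, .g, .e, .f, .c, .d, .e, .b, .c, .d, .h, .j, .g, .f, .e, .d, .c, .b], .a),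
  (2659, [.h, .e, .f, .d, .e, .c, .d, .h, .i, .h, .f, .g, .e, .f, .c, .d, .e, .b, .c, .d, .h, .j, .g, .f, .e, .d, .c, .b], .a),
  (2689, [.b, .c, .d, .h, .i, .f, .d, .e, .b, .c, .d, .h, .g, .f, .e, .d, .c, .b], .a),
  (2701, [.f, .e, .c, .d, .h, .i, .f, .d, .e, .b, .c, .d, .h, .j, .g, .f, .e, .d, .c, .b], .a),
  (2747, [.g, .f, .e, .c, .d, .h, .i, .e, .f, .d, .e, .b, .c, .d, .h, .j, .g, .f, .e, .d, .c, .b], .a),
  (2838, [.h, .f, .c, .d, .e, .a, .b, .c, .d, .h, .i, .f, .e, .b, .c, .d, .h, .j, .g, .f, .e, .d, .c, .b], .a),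
  (2851, [.i, .h, .c, .d, .e, .b, .c, .d, .h, .i, .g, .f, .e, .b, .c, .d, .h, .j, .g, .f, .e, .d, .c, .b], .a),
  (2864, [.j, .g, .e, .f, .d, .e, .c, .d, .h, .i, .d, .h, .g, .e, .f, .d, .e, .b, .c, .d, .h, .j, .g, .f, .e, .d, .c, .b], .a),
  (2926, [.e, .a, .b, .c, .d, .h, .i, .h, .d, .e, .c, .d, .h, .j, .g, .f, .e, .d, .c, .b], .a),
  (3099, [.j, .g, .f, .e, .a, .b, .c, .d, .h, .i, .f, .e, .c, .d, .h, .g, .f, .e, .d, .c], .b),
  (3113, [.g, .f, .e, .a, .b, .c, .d, .h, .i, .f, .d, .e, .c, .d, .h, .j, .g, .f, .e, .d, .c, .b], .a),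
  (3267, [.d, .h, .e, .f, .d, .e, .c, .d, .h, .i, .g, .e, .f, .d, .e, .c, .d, .h, .j, .g, .f, .e, .d, .c], .b),
  (3410, [.f, .d, .e, .c, .d, .h, .i, .h, .e, .f, .c, .d, .e, .b, .c, .d, .h, .g, .f, .e, .d, .c, .b], .a),
  (3582, [.h, .d, .e, .c, .d, .h, .i, .g, .f, .e, .b, .c, .d, .h, .j, .g, .f, .e, .d, .c, .b], .a),
  (3723, [.f, .g, .e, .f, .d, .e, .b, .c, .d, .h, .i, .h, .f, .g, .e, .f, .d, .e, .b, .c, .d, .h, .j, .g, .f, .e, .d, .c, .b], .a),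
  (3835, [.h, .i, .d, .h, .e, .f, .d, .e, .c, .d, .h, .i, .d, .h, .f, .g, .e, .f, .d, .e, .b, .c, .d, .h, .j, .g, .f, .e, .d, .c, .b], .a),
  (4132, [.h, .e, .d], .c),
  (4178, [.i, .h, .f, .d, .e, .c, .d, .h, .i, .f, .d, .e, .c, .d, .h, .g, .f, .e, .d, .c, .b], .a),
  (4265, [.f, .e, .a, .b, .c, .d, .h, .i, .d, .h, .g, .f, .c, .d, .e, .b, .c, .d, .h, .j, .g, .f, .e, .d, .c, .b], .a),
  (4277, [.b, .c, .d, .h, .i, .h, .c, .d, .e, .b, .c, .d, .h, .f, .e, .d, .c, .b], .a),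
  (4441, [.f, .e, .d, .h, .c, .d, .e, .b, .c, .d, .h, .i, .g, .f, .e, .b, .c, .d, .h, .j, .g, .f, .e, .d, .c, .b], .a),
  (4496, [.g, .e, .f, .c, .d, .e, .b, .c, .d, .h, .i, .h, .f, .g, .e, .f, .c, .d, .e, .b, .c, .d, .h, .j, .g, .f, .e, .d, .c, .b], .a),
  (4524, [.d, .e, .c, .d, .h, .i, .h, .d, .e, .b, .c, .d, .h, .f, .e, .d, .c, .b], .a),
  (4621, [.g, .f, .d, .e, .b, .c, .d, .h, .i, .g, .f, .d, .e, .b, .c, .d, .h, .j, .g, .f, .e, .d, .c, .b], .a),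
  (4631, [.f, .c, .d, .e, .a, .b, .c, .d, .h, .i, .h, .g, .f, .d, .e, .b, .c, .d, .h, .j, .g, .f, .e, .d, .c, .b], .a),
  (4649, [.j, .g, .e, .f, .d, .e, .c, .d, .h, .i, .h, .g, .f, .d, .e, .b, .c, .d, .h, .j, .g, .f, .e, .d, .c, .b], .a),
  (4662, [.g, .f, .d, .e, .c, .d, .h, .i, .e, .f, .d, .e, .b, .c, .d, .h, .g, .f, .e, .d, .c, .b], .a),
  (4711, [.g, .e, .f, .d, .e, .b, .c, .d, .h, .i, .h, .e, .f, .d, .e, .b, .c, .d, .h, .j, .g, .f, .e, .d, .c, .b], .a),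
  (4790, [.d, .h, .e, .f, .d, .e, .b, .c, .d, .h, .i, .f, .g, .e, .f, .d, .e, .b, .c, .d, .h, .j, .g, .f, .e, .d, .c, .b], .a),
  (4853, [.h, .g, .e, .f, .d, .e, .c, .d, .h, .i, .d, .h, .e, .f, .d, .e, .b, .c, .d, .h, .g, .f, .e, .d, .c, .b], .a),
  (4978, [.g, .f, .e, .d, .h, .i, .e, .c, .d, .h, .g, .f, .e, .d, .c, .b], .a),
  (5064, [.i, .h, .g, .f, .d, .e, .b, .c, .d, .h, .i, .g, .e, .f, .d, .e, .c, .d, .h, .j, .g, .f, .e, .d, .c, .b], .a),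
  (5172, [.g, .d, .e, .f, .c, .d, .e, .b, .c, .d, .h, .i, .f, .g, .e, .f, .d, .e, .c, .d, .h, .j, .g, .f, .e, .d, .c, .b], .a),
  (5178, [.h, .j, .g, .f, .c, .d, .e, .b, .c, .d, .h, .i, .f, .g, .e, .f, .d, .e, .c, .d, .h, .j, .g, .f, .e, .d, .c, .b], .a),
  (5218, [.h, .f, .d, .e, .a, .b, .c, .d, .h, .i, .e, .b, .c, .d, .h, .j, .g, .f, .e, .d, .c, .b], .a),
  (5273, [.i, .b, .c, .d, .h, .j, .g, .e, .f, .d, .e, .c, .d, .h, .i, .g, .f, .e, .c, .d, .h, .j, .g, .f, .e, .d, .c, .b], .a),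
  (5306, [.j, .g, .f, .d, .e, .a, .b, .c, .d, .h, .i, .e, .b, .c, .d, .h, .f, .e, .d, .c, .b], .a),
  (5415, [.e, .f, .d, .e, .b, .c, .d, .h, .i, .h, .f, .c, .d, .e, .b, .c, .d, .h, .j, .g, .f, .e, .d, .c, .b], .a),
  (5449, [.i, .h, .c, .d, .e, .b, .c, .d, .h, .i, .h, .g, .f, .c, .d, .e, .b, .c, .d, .h, .j, .g, .f, .e, .d, .c, .b], .a),
  (5692, [.f, .e, .d, .h, .i, .e, .b, .c, .d, .h, .f, .e, .d, .c, .b], .a),
  (5726, [.f, .e, .c, .d, .h, .i, .b, .c, .d, .h, .j, .g, .f, .e, .d, .c, .b], .a),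
  (5730, [.g, .f, .e, .c, .d, .h, .i, .e, .b, .c, .d, .h, .j, .g, .f, .e, .d, .c, .b], .a),
  (5904, [.i, .d, .h, .c, .d, .e, .b, .c, .d, .h, .i, .f, .e, .b, .c, .d, .h, .g, .f, .e, .d, .c, .b], .a),
  (5950, [.d, .h, .g, .f, .c, .d, .e, .b, .c, .d, .h, .i, .f, .d, .e, .c, .d, .h, .j, .g, .f, .e, .d, .c, .b], .a),
  (6070, [.h, .f, .g, .e, .f, .d, .e, .b, .c, .d, .h, .i, .f, .g, .e, .f, .d, .e, .b, .c, .d, .h, .j, .g, .f, .e, .d, .c, .b], .a),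
  (6107, [.i, .h, .f, .g, .e, .f, .d, .e, .b, .c, .d, .h, .i, .h, .f, .g, .e, .f, .d, .e, .b, .c, .d, .h, .j, .g, .f, .e, .d, .c, .b], .a),
  (6154, [.b, .c, .d, .e, .a, .b, .c, .d, .h, .i, .d, .h, .f, .c, .d, .e, .b, .c, .d, .h, .j, .g, .f, .e, .d, .c, .b], .a),
  (6281, [.b, .c, .d, .h, .g, .d, .e, .f, .c, .d, .e, .a, .b, .c, .d, .h, .i, .g, .f, .e, .b, .c, .d, .h, .j, .g, .f, .e, .d, .c, .b], .a),
  (6288, [.d, .h, .d, .e, .f, .c, .d, .e, .b, .c, .d, .h, .i, .d, .h, .g, .f, .c, .d, .e, .b, .c, .d, .h, .j, .g, .f, .e, .d, .c, .b], .a),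
  (6296, [.f, .e, .b, .c, .d, .h, .i, .d, .e, .c, .d, .h, .f, .e, .d, .c, .b], .a),
  (6419, [.h, .j, .g, .f, .c, .d, .e, .b, .c, .d, .h, .i, .g, .e, .f, .d, .e, .c, .d, .h, .j, .g, .f, .e, .d, .c, .b], .a),
  (6495, [.g, .e, .f, .d, .e, .a, .b, .c, .d, .h, .i, .f, .d, .e, .b, .c, .d, .h, .j, .g, .f, .e, .d, .c, .b], .a),
  (6716, [.h, .g, .e, .f, .d, .e, .a, .b, .c, .d, .h, .i, .e, .b, .c, .d, .h, .j, .g, .f, .e, .d, .c, .b], .a),
  (6877, [.i, .h, .e, .f, .d, .e, .c, .d, .h, .i, .e, .f, .c, .d, .e, .b, .c, .d, .h, .j, .g, .f, .e, .d, .c, .b], .a),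
  (6938, [.h, .j, .g, .f, .d, .e, .c, .d, .h, .i, .g, .d, .e, .f, .c, .d, .e, .b, .c, .d, .h, .j, .g, .f, .e, .d, .c, .b], .a),
  (6990, [.g, .f, .e, .d, .h, .f, .c, .d, .e, .b, .c, .d, .h, .i, .g, .f, .e, .b, .c, .d, .h, .j, .g, .f, .e, .d, .c, .b], .a),
  (7058, [.i, .c, .d, .h, .e, .f, .d, .e, .c, .d, .h, .i, .f, .g, .e, .f, .c, .d, .e, .b, .c, .d, .h, .j, .g, .f, .e, .d, .c, .b], .a),
  (7061, [.h, .i, .d, .h, .e, .f, .d, .e, .b, .c, .d, .h, .i, .f, .g, .e, .f, .d, .e, .b, .c, .d, .h, .j, .g, .f, .e, .d, .c, .b], .a),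
  (7092, [.i, .h, .d, .e, .c, .d, .h, .f, .g, .e, .f, .d, .e, .c, .d, .h, .i, .d, .e, .b, .c, .d, .h, .j, .g, .f, .e, .d, .c, .b], .a),
  (7119, [.f, .d, .e, .a, .b, .c, .d, .h, .i, .h, .d, .e, .b, .c, .d, .h, .g, .f, .e, .d, .c, .b], .a),
  (7153, [.h, .g, .e, .f, .d, .e, .c, .d, .h, .i, .h, .d, .e, .b, .c, .d, .h, .j, .g, .f, .e, .d, .c, .b], .a),
  (7492, [.i, .h, .g, .f, .c, .d, .e, .b, .c, .d, .h, .i, .g, .e, .f, .d, .e, .b, .c, .d, .h, .j, .g, .f, .e, .d, .c, .b], .a),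
  (7501, [.i, .d, .h, .e, .f, .d, .e, .b, .c, .d, .h, .i, .g, .e, .f, .d, .e, .b, .c, .d, .h, .j, .g, .f, .e, .d, .c, .b], .a),
  (7556, [.h, .j, .f, .g, .e, .f, .d, .e, .b, .c, .d, .h, .i, .h, .g, .e, .f, .d, .e, .b, .c, .d, .h, .j, .g, .f, .e, .d, .c, .b], .a),
  (7580, [.j, .f, .g, .e, .f, .d, .e, .a, .b, .c, .d, .h, .i, .f, .g, .e, .f, .d, .e, .b, .c, .d, .h, .j, .g, .f, .e, .d, .c, .b], .a),
  (7675, [.i, .h, .f, .d, .e, .a, .b, .c, .d, .h, .i, .f, .d, .e, .b, .c, .d, .h, .g, .f, .e, .d, .c, .b], .a),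
  (7717, [.i, .h, .j, .g, .f, .d, .e, .a, .b, .c, .d, .h, .i, .f, .e, .b, .c, .d, .h, .j, .g, .f, .e, .d, .c, .b], .a),
  (7972, [.g, .f, .d, .e, .a, .b, .c, .d, .h, .i, .f, .c, .d, .e, .b, .c, .d, .h, .g, .f, .e, .d, .c, .b], .a),
  (7981, [.e, .f, .d, .e, .a, .b, .c, .d, .h, .i, .c, .d, .e, .b, .c, .d, .h, .j, .g, .f, .e, .d, .c, .b], .a),
  (8026, [.i, .h, .j, .g, .f, .d, .e, .c, .d, .h, .i, .f, .e, .b, .c, .d, .h, .g, .f, .e, .d, .c, .b], .a),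
  (8109, [.i, .h, .e, .f, .d, .e, .b, .c, .d, .h, .i, .e, .b, .c, .d, .h, .j, .g, .f, .e, .d, .c, .b], .a),
  (8124, [.h, .f, .c, .d, .e, .b, .c, .d, .h, .i, .h, .f, .c, .d, .e, .b, .c, .d, .h, .g, .f, .e, .d, .c, .b], .a),
  (8222, [.h, .e, .f, .c, .d, .e, .a, .b, .c, .d, .h, .i, .h, .g, .f, .c, .d, .e, .b, .c, .d, .h, .j, .g, .f, .e, .d, .c, .b], .a),
  (8303, [.i, .h, .f, .d, .e, .b, .c, .d, .h, .i, .e, .f, .c, .d, .e, .b, .c, .d, .h, .g, .f, .e, .d, .c, .b], .a),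
  (8479, [.j, .g, .e, .f, .d, .e, .b, .c, .d, .h, .i, .g, .d, .e, .f, .c, .d, .e, .b, .c, .d, .h, .j, .g, .f, .e, .d, .c, .b], .a),
  (8534, [.d, .h, .f, .g, .e, .f, .d, .e, .c, .d, .h, .i, .g, .e, .f, .c, .d, .e, .b, .c, .d, .h, .j, .g, .f, .e, .d, .c, .b], .a),
  (8921, [.c, .d, .h, .e, .f, .d, .e, .a, .b, .c, .d, .h, .i, .h, .g, .f, .d, .e, .b, .c, .d, .h, .j, .g, .f, .e, .d, .c, .b], .a),
  (9445, [.c, .d, .h, .g, .e, .f, .c, .d, .e, .b, .c, .d, .h, .i, .f, .e, .b, .c, .d, .h, .j, .g, .f, .e, .d, .c, .b], .a),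
  (9480, [.i, .c, .d, .h, .g, .e, .f, .c, .d, .e, .a, .b, .c, .d, .h, .i, .f, .e, .b, .c, .d, .h, .j, .g, .f, .e, .d, .c, .b], .a),
  (9567, [.h, .i, .c, .d, .h, .g, .e, .f, .c, .d, .e, .a, .b, .c, .d, .h, .i, .g, .f, .e, .b, .c, .d, .h, .j, .g, .f, .e, .d, .c, .b], .a),
  (9618, [.g, .d, .e, .f, .b, .c, .d, .e, .a, .b, .c, .d, .h, .i, .g, .f, .d, .e, .b, .c, .d, .h, .j, .g, .f, .e, .d, .c, .b], .a),
  (9694, [.a, .b, .c, .d, .h, .j, .g, .e, .f, .d, .e, .c, .d, .h, .i, .g, .f, .c, .d, .e, .b, .c, .d, .h, .j, .g, .f, .e, .d, .c, .b], .a),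
  (9991, [.d, .h, .d, .e, .f, .c, .d, .e, .b, .c, .d, .h, .i, .h, .g, .f, .c, .d, .e, .b, .c, .d, .h, .j, .g, .f, .e, .d, .c, .b], .a),
  (10308, [.h, .g, .e, .f, .c, .d, .e, .b, .c, .d, .h, .i, .g, .d, .e, .f, .c, .d, .e, .b, .c, .d, .h, .j, .g, .f, .e, .d, .c, .b], .a),
  (10773, [.d, .h, .f, .g, .e, .f, .d, .e, .b, .c, .d, .h, .i, .g, .f, .d, .e, .b, .c, .d, .h, .j, .g, .f, .e, .d, .c, .b], .a),
  (10804, [.h, .g, .d, .e, .f, .c, .d, .e, .a, .b, .c, .d, .h, .i, .h, .g, .f, .d, .e, .b, .c, .d, .h, .j, .g, .f, .e, .d, .c, .b], .a),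
  (10844, [.d, .h, .j, .g, .e, .f, .c, .d, .e, .b, .c, .d, .h, .i, .h, .g, .f, .d, .e, .b, .c, .d, .h, .j, .g, .f, .e, .d, .c, .b], .a),
  (10857, [.f, .e, .d, .h, .g, .f, .c, .d, .e, .b, .c, .d, .h, .i, .h, .g, .f, .d, .e, .b, .c, .d, .h, .j, .g, .f, .e, .d, .c, .b], .a),
  (10871, [.b, .c, .d, .h, .g, .e, .f, .d, .e, .b, .c, .d, .h, .i, .h, .g, .f, .d, .e, .b, .c, .d, .h, .j, .g, .f, .e, .d, .c, .b], .a),
  (11139, [.e, .d, .h, .d, .e, .f, .c, .d, .e, .b, .c, .d, .h, .i, .g, .e, .f, .d, .e, .b, .c, .d, .h, .j, .g, .f, .e, .d, .c, .b], .a),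
  (11424, [.f, .e, .d, .h, .c, .d, .e, .b, .c, .d, .h, .i, .d, .e, .f, .c, .d, .e, .b, .c, .d, .h, .g, .f, .e, .d, .c, .b], .a),
  (11437, [.a, .b, .c, .d, .h, .e, .f, .c, .d, .e, .b, .c, .d, .h, .i, .f, .e, .b, .c, .d, .h, .j, .g, .f, .e, .d, .c, .b], .a),
  (11517, [.i, .c, .d, .h, .j, .g, .e, .f, .c, .d, .e, .b, .c, .d, .h, .i, .g, .f, .e, .b, .c, .d, .h, .j, .g, .f, .e, .d, .c, .b], .a),
  (11656, [.i, .h, .e, .f, .b, .c, .d, .e, .a, .b, .c, .d, .h, .i, .g, .d, .e, .f, .c, .d, .e, .b, .c, .d, .h, .j, .g, .f, .e, .d, .c, .b], .a),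
  (11682, [.e, .d, .h, .j, .g, .e, .f, .c, .d, .e, .b, .c, .d, .h, .i, .f, .e, .b, .c, .d, .h, .g, .f, .e, .d, .c, .b], .a),
  (12035, [.d, .h, .i, .c, .d, .h, .e, .f, .d, .e, .c, .d, .h, .i, .h, .g, .f, .c, .d, .e, .b, .c, .d, .h, .j, .g, .f, .e, .d, .c, .b], .a),
  (12065, [.h, .g, .f, .c, .d, .e, .a, .b, .c, .d, .h, .i, .e, .f, .c, .d, .e, .b, .c, .d, .h, .g, .f, .e, .d, .c, .b], .a),
  (12169, [.d, .h, .b, .c, .d, .e, .a, .b, .c, .d, .h, .i, .d, .e, .f, .c, .d, .e, .b, .c, .d, .h, .j, .g, .f, .e, .d, .c, .b], .a),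
  (12222, [.h, .i, .d, .h, .c, .d, .e, .a, .b, .c, .d, .h, .i, .e, .f, .c, .d, .e, .b, .c, .d, .h, .j, .g, .f, .e, .d, .c, .b], .a),
  (12295, [.g, .f, .e, .d, .h, .g, .f, .c, .d, .e, .b, .c, .d, .h, .i, .f, .d, .e, .b, .c, .d, .h, .j, .g, .f, .e, .d, .c, .b], .a),
  (12435, [.i, .h, .f, .g, .e, .f, .d, .e, .a, .b, .c, .d, .h, .i, .g, .e, .f, .c, .d, .e, .b, .c, .d, .h, .j, .g, .f, .e, .d, .c, .b], .a),
  (12460, [.e, .d, .h, .j, .g, .f, .c, .d, .e, .b, .c, .d, .h, .i, .g, .e, .f, .c, .d, .e, .b, .c, .d, .h, .j, .g, .f, .e, .d, .c, .b], .a),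
  (12715, [.e, .c, .d, .h, .g, .d, .e, .f, .c, .d, .e, .b, .c, .d, .h, .i, .g, .f, .d, .e, .b, .c, .d, .h, .j, .g, .f, .e, .d, .c, .b], .a),
  (12884, [.i, .d, .h, .g, .e, .f, .c, .d, .e, .b, .c, .d, .h, .i, .g, .f, .d, .e, .b, .c, .d, .h, .j, .g, .f, .e, .d, .c, .b], .a),
  (12940, [.h, .i, .d, .h, .e, .f, .c, .d, .e, .a, .b, .c, .d, .h, .i, .h, .g, .f, .d, .e, .b, .c, .d, .h, .j, .g, .f, .e, .d, .c, .b], .a),
  (12977, [.i, .h, .j, .f, .g, .e, .f, .c, .d, .e, .b, .c, .d, .h, .i, .h, .g, .f, .d, .e, .b, .c, .d, .h, .j, .g, .f, .e, .d, .c, .b], .a),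
  (13176, [.i, .c, .d, .h, .g, .e, .f, .d, .e, .b, .c, .d, .h, .i, .e, .f, .d, .e, .b, .c, .d, .h, .j, .g, .f, .e, .d, .c, .b], .a),
  (13306, [.h, .e, .f, .g, .d, .e, .f, .c, .d, .e, .b, .c, .d, .h, .i, .g, .e, .f, .d, .e, .b, .c, .d, .h, .j, .g, .f, .e, .d, .c, .b], .a),
  (13327, [.e, .c, .d, .h, .g, .e, .f, .c, .d, .e, .b, .c, .d, .h, .i, .g, .e, .f, .d, .e, .b, .c, .d, .h, .j, .g, .f, .e, .d, .c, .b], .a),
  (13347, [.i, .c, .d, .h, .f, .g, .e, .f, .d, .e, .b, .c, .d, .h, .i, .g, .e, .f, .d, .e, .b, .c, .d, .h, .j, .g, .f, .e, .d, .c, .b], .a),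
  (13390, [.f, .e, .c, .d, .h, .g, .e, .f, .c, .d, .e, .b, .c, .d, .h, .i, .g, .f, .d, .e, .b, .c, .d, .h, .j, .g, .f, .e, .d, .c, .b], .a),
  (13430, [.i, .c, .d, .h, .g, .d, .e, .f, .c, .d, .e, .b, .c, .d, .h, .i, .h, .g, .e, .f, .d, .e, .b, .c, .d, .h, .j, .g, .f, .e, .d, .c, .b], .a),
  (13550, [.c, .d, .e, .a, .b, .c, .d, .h, .j, .f, .g, .e, .f, .d, .e, .c, .d, .h, .i, .g, .f, .c, .d, .e, .b, .c, .d, .h, .j, .g, .f, .e, .d, .c, .b], .a),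
  (13627, [.i, .b, .c, .d, .h, .e, .f, .d, .e, .a, .b, .c, .d, .h, .i, .f, .d, .e, .b, .c, .d, .h, .j, .g, .f, .e, .d, .c, .b], .a),
  (13970, [.d, .h, .f, .g, .e, .f, .c, .d, .e, .b, .c, .d, .h, .i, .h, .f, .c, .d, .e, .b, .c, .d, .h, .j, .g, .f, .e, .d, .c, .b], .a),
  (13991, [.h, .i, .f, .e, .d, .h, .c, .d, .e, .b, .c, .d, .h, .i, .h, .f, .c, .d, .e, .b, .c, .d, .h, .j, .g, .f, .e, .d, .c, .b], .a),
  (14010, [.i, .h, .f, .g, .e, .f, .c, .d, .e, .b, .c, .d, .h, .i, .g, .f, .c, .d, .e, .b, .c, .d, .h, .j, .g, .f, .e, .d, .c, .b], .a),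
  (14431, [.h, .j, .f, .g, .e, .f, .c, .d, .e, .b, .c, .d, .h, .i, .e, .f, .c, .d, .e, .b, .c, .d, .h, .j, .g, .f, .e, .d, .c, .b], .a),
  (14489, [.i, .a, .b, .c, .d, .h, .e, .f, .d, .e, .b, .c, .d, .h, .i, .h, .f, .d, .e, .b, .c, .d, .h, .j, .g, .f, .e, .d, .c, .b], .a),
  (14571, [.i, .e, .d, .h, .g, .e, .f, .c, .d, .e, .b, .c, .d, .h, .i, .h, .e, .f, .c, .d, .e, .b, .c, .d, .h, .j, .g, .f, .e, .d, .c, .b], .a),
  (14674, [.i, .h, .j, .g, .d, .e, .f, .c, .d, .e, .b, .c, .d, .h, .i, .g, .e, .f, .c, .d, .e, .b, .c, .d, .h, .j, .g, .f, .e, .d, .c, .b], .a),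
  (14779, [.i, .j, .g, .f, .e, .d, .h, .f, .c, .d, .e, .b, .c, .d, .h, .i, .g, .f, .c, .d, .e, .b, .c, .d, .h, .j, .g, .f, .e, .d, .c, .b], .a),
  (14814, [.i, .e, .d, .h, .g, .d, .e, .f, .c, .d, .e, .b, .c, .d, .h, .i, .h, .g, .e, .f, .c, .d, .e, .b, .c, .d, .h, .j, .g, .f, .e, .d, .c, .b], .a),
  (15060, [.c, .d, .h, .e, .f, .b, .c, .d, .e, .a, .b, .c, .d, .h, .i, .f, .c, .d, .e, .b, .c, .d, .h, .j, .g, .f, .e, .d, .c, .b], .a),
  (15073, [.i, .h, .g, .j, .f, .g, .e, .f, .d, .e, .b, .c, .d, .h, .i, .f, .c, .d, .e, .b, .c, .d, .h, .j, .g, .f, .e, .d, .c, .b], .a),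
  (15344, [.g, .f, .e, .d, .h, .e, .f, .c, .d, .e, .b, .c, .d, .h, .i, .e, .f, .c, .d, .e, .b, .c, .d, .h, .g, .f, .e, .d, .c, .b], .a),
  (15393, [.i, .d, .h, .g, .d, .e, .f, .c, .d, .e, .b, .c, .d, .h, .i, .e, .f, .d, .e, .b, .c, .d, .h, .j, .g, .f, .e, .d, .c, .b], .a),
  (15523, [.h, .i, .e, .d, .h, .g, .f, .c, .d, .e, .a, .b, .c, .d, .h, .i, .h, .f, .c, .d, .e, .b, .c, .d, .h, .j, .g, .f, .e, .d, .c, .b], .a),
  (15587, [.f, .e, .d, .h, .j, .g, .e, .f, .c, .d, .e, .b, .c, .d, .h, .i, .g, .e, .f, .d, .e, .b, .c, .d, .h, .j, .g, .f, .e, .d, .c, .b], .a),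
  (15617, [.i, .a, .b, .c, .d, .h, .f, .g, .e, .f, .d, .e, .c, .d, .h, .i, .g, .e, .f, .d, .e, .b, .c, .d, .h, .j, .g, .f, .e, .d, .c, .b], .a),
  (15744, [.i, .a, .b, .c, .d, .h, .e, .f, .c, .d, .e, .a, .b, .c, .d, .h, .i, .g, .f, .d, .e, .b, .c, .d, .h, .j, .g, .f, .e, .d, .c, .b], .a),
  (15754, [.h, .i, .b, .c, .d, .h, .e, .f, .c, .d, .e, .a, .b, .c, .d, .h, .i, .h, .g, .f, .c, .d, .e, .b, .c, .d, .h, .j, .g, .f, .e, .d, .c, .b], .a),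
  (15819, [.h, .i, .e, .d, .h, .c, .d, .e, .a, .b, .c, .d, .h, .i, .d, .e, .f, .c, .d, .e, .b, .c, .d, .h, .g, .f, .e, .d, .c, .b], .a),
  (15969, [.i, .e, .d, .h, .f, .g, .e, .f, .d, .e, .b, .c, .d, .h, .i, .d, .e, .f, .c, .d, .e, .b, .c, .d, .h, .j, .g, .f, .e, .d, .c, .b], .a),
  (16027, [.e, .d, .h, .e, .f, .c, .d, .e, .b, .c, .d, .h, .i, .f, .c, .d, .e, .b, .c, .d, .h, .g, .f, .e, .d, .c, .b], .a),
  (16158, [.g, .j, .f, .g, .d, .e, .f, .c, .d, .e, .b, .c, .d, .h, .i, .g, .f, .c, .d, .e, .b, .c, .d, .h, .j, .g, .f, .e, .d, .c, .b], .a),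
  (16178, [.i, .d, .h, .j, .g, .e, .f, .c, .d, .e, .b, .c, .d, .h, .i, .g, .f, .c, .d, .e, .b, .c, .d, .h, .j, .g, .f, .e, .d, .c, .b], .a),
  (16194, [.d, .h, .i, .e, .d, .h, .f, .c, .d, .e, .b, .c, .d, .h, .i, .g, .f, .c, .d, .e, .b, .c, .d, .h, .j, .g, .f, .e, .d, .c, .b], .a),
  (16295, [.i, .d, .h, .f, .g, .d, .e, .f, .c, .d, .e, .b, .c, .d, .h, .i, .h, .g, .f, .c, .d, .e, .b, .c, .d, .h, .j, .g, .f, .e, .d, .c, .b], .a),
  (16605, [.d, .h, .f, .g, .d, .e, .f, .c, .d, .e, .b, .c, .d, .h, .i, .e, .f, .c, .d, .e, .b, .c, .d, .h, .j, .g, .f, .e, .d, .c, .b], .a),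
  (16672, [.h, .i, .a, .b, .c, .d, .h, .e, .f, .d, .e, .c, .d, .h, .i, .e, .f, .c, .d, .e, .b, .c, .d, .h, .j, .g, .f, .e, .d, .c, .b], .a),
  (16720, [.f, .e, .b, .c, .d, .h, .e, .f, .c, .d, .e, .b, .c, .d, .h, .i, .f, .c, .d, .e, .b, .c, .d, .h, .j, .g, .f, .e, .d, .c, .b], .a),
  (17035, [.d, .h, .i, .e, .c, .d, .h, .j, .g, .e, .f, .c, .d, .e, .b, .c, .d, .h, .i, .g, .f, .e, .b, .c, .d, .h, .j, .g, .f, .e, .d, .c, .b], .a),
  (17043, [.f, .e, .d, .h, .g, .d, .e, .f, .c, .d, .e, .a, .b, .c, .d, .h, .i, .g, .f, .c, .d, .e, .b, .c, .d, .h, .j, .g, .f, .e, .d, .c, .b], .a),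
  (17084, [.i, .e, .b, .c, .d, .h, .g, .e, .f, .c, .d, .e, .b, .c, .d, .h, .i, .h, .g, .e, .f, .c, .d, .e, .b, .c, .d, .h, .j, .g, .f, .e, .d, .c, .b], .a),
  (17239, [.i, .d, .h, .d, .e, .f, .b, .c, .d, .e, .a, .b, .c, .d, .h, .i, .f, .c, .d, .e, .b, .c, .d, .h, .j, .g, .f, .e, .d, .c, .b], .a),
  (17340, [.f, .e, .b, .c, .d, .h, .g, .e, .f, .c, .d, .e, .b, .c, .d, .h, .i, .g, .f, .c, .d, .e, .b, .c, .d, .h, .j, .g, .f, .e, .d, .c, .b], .a),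
  (17475, [.c, .d, .h, .j, .g, .e, .f, .b, .c, .d, .e, .a, .b, .c, .d, .h, .i, .g, .f, .c, .d, .e, .b, .c, .d, .h, .j, .g, .f, .e, .d, .c, .b], .a),
  (17691, [.h, .i, .b, .c, .d, .h, .j, .f, .g, .e, .f, .d, .e, .c, .d, .h, .i, .e, .f, .c, .d, .e, .b, .c, .d, .h, .j, .g, .f, .e, .d, .c, .b], .a),
  (17892, [.d, .e, .c, .d, .h, .f, .g, .e, .f, .c, .d, .e, .a, .b, .c, .d, .h, .i, .g, .f, .d, .e, .b, .c, .d, .h, .j, .g, .f, .e, .d, .c, .b], .a),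
  (18261, [.i, .b, .c, .d, .h, .g, .e, .f, .c, .d, .e, .b, .c, .d, .h, .i, .g, .f, .c, .d, .e, .b, .c, .d, .h, .j, .g, .f, .e, .d, .c, .b], .a),
  (18311, [.i, .d, .h, .f, .g, .e, .f, .b, .c, .d, .e, .a, .b, .c, .d, .h, .i, .h, .g, .f, .c, .d, .e, .b, .c, .d, .h, .j, .g, .f, .e, .d, .c, .b], .a),
  (18374, [.h, .d, .e, .c, .d, .h, .f, .g, .e, .f, .c, .d, .e, .b, .c, .d, .h, .i, .f, .d, .e, .b, .c, .d, .h, .j, .g, .f, .e, .d, .c, .b], .a),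
  (18584, [.h, .i, .e, .c, .d, .h, .e, .f, .c, .d, .e, .b, .c, .d, .h, .i, .h, .e, .f, .c, .d, .e, .b, .c, .d, .h, .g, .f, .e, .d, .c, .b], .a),
  (18596, [.h, .i, .d, .h, .g, .f, .c, .d, .e, .a, .b, .c, .d, .h, .i, .d, .e, .f, .c, .d, .e, .b, .c, .d, .h, .j, .g, .f, .e, .d, .c, .b], .a),
  (18684, [.i, .f, .e, .c, .d, .h, .e, .f, .c, .d, .e, .b, .c, .d, .h, .i, .e, .f, .c, .d, .e, .b, .c, .d, .h, .j, .g, .f, .e, .d, .c, .b], .a),
  (18736, [.i, .a, .b, .c, .d, .h, .g, .d, .e, .f, .c, .d, .e, .b, .c, .d, .h, .i, .f, .d, .e, .b, .c, .d, .h, .j, .g, .f, .e, .d, .c, .b], .a),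
  (18876, [.i, .f, .e, .d, .h, .j, .g, .f, .c, .d, .e, .a, .b, .c, .d, .h, .i, .f, .c, .d, .e, .b, .c, .d, .h, .j, .g, .f, .e, .d, .c, .b], .a),
  (18990, [.d, .h, .i, .g, .f, .e, .d, .h, .f, .c, .d, .e, .b, .c, .d, .h, .i, .g, .e, .f, .c, .d, .e, .b, .c, .d, .h, .j, .g, .f, .e, .d, .c, .b], .a),
  (19324, [.i, .d, .h, .g, .j, .f, .g, .e, .f, .c, .d, .e, .b, .c, .d, .h, .i, .g, .f, .d, .e, .b, .c, .d, .h, .j, .g, .f, .e, .d, .c, .b], .a),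
  (19394, [.f, .e, .c, .d, .h, .e, .f, .g, .d, .e, .f, .c, .d, .e, .b, .c, .d, .h, .i, .f, .d, .e, .c, .d, .h, .j, .g, .f, .e, .d, .c, .b], .a),
  (19528, [.c, .d, .h, .i, .e, .d, .h, .f, .g, .e, .f, .d, .e, .b, .c, .d, .h, .i, .h, .e, .f, .d, .e, .b, .c, .d, .h, .j, .g, .f, .e, .d, .c, .b], .a),
  (19688, [.i, .c, .d, .h, .f, .g, .e, .f, .c, .d, .e, .a, .b, .c, .d, .h, .i, .f, .c, .d, .e, .b, .c, .d, .h, .j, .g, .f, .e, .d, .c, .b], .a),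
  (19690, [.h, .i, .d, .h, .j, .g, .e, .f, .c, .d, .e, .a, .b, .c, .d, .h, .i, .f, .c, .d, .e, .b, .c, .d, .h, .j, .g, .f, .e, .d, .c, .b], .a),
  (19781, [.h, .i, .f, .e, .d, .h, .j, .g, .d, .e, .f, .c, .d, .e, .b, .c, .d, .h, .i, .g, .f, .d, .e, .b, .c, .d, .h, .j, .g, .f, .e, .d, .c, .b], .a),
  (19816, [.i, .c, .d, .h, .e, .f, .g, .d, .e, .f, .b, .c, .d, .e, .a, .b, .c, .d, .h, .i, .g, .f, .c, .d, .e, .b, .c, .d, .h, .j, .g, .f, .e, .d, .c, .b], .a),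
  (19822, [.c, .d, .e, .a, .b, .c, .d, .h, .f, .g, .e, .f, .c, .d, .e, .b, .c, .d, .h, .i, .g, .f, .c, .d, .e, .b, .c, .d, .h, .j, .g, .f, .e, .d, .c, .b], .a),
  (20020, [.h, .i, .e, .d, .h, .d, .e, .f, .c, .d, .e, .b, .c, .d, .h, .i, .h, .f, .c, .d, .e, .b, .c, .d, .h, .g, .f, .e, .d, .c, .b], .a),
  (20057, [.d, .h, .i, .e, .d, .h, .g, .f, .c, .d, .e, .b, .c, .d, .h, .i, .f, .c, .d, .e, .b, .c, .d, .h, .j, .g, .f, .e, .d, .c, .b], .a),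
  (20091, [.i, .g, .f, .e, .d, .h, .g, .e, .f, .c, .d, .e, .b, .c, .d, .h, .i, .h, .f, .c, .d, .e, .b, .c, .d, .h, .j, .g, .f, .e, .d, .c, .b], .a),
  (20453, [.i, .h, .j, .f, .g, .e, .f, .b, .c, .d, .e, .a, .b, .c, .d, .h, .i, .e, .f, .c, .d, .e, .b, .c, .d, .h, .j, .g, .f, .e, .d, .c, .b], .a),
  (20480, [.h, .i, .c, .d, .h, .g, .e, .f, .c, .d, .e, .a, .b, .c, .d, .h, .i, .e, .f, .c, .d, .e, .b, .c, .d, .h, .j, .g, .f, .e, .d, .c, .b], .a),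
  (20548, [.e, .d, .h, .i, .c, .d, .h, .g, .e, .f, .d, .e, .b, .c, .d, .h, .i, .e, .f, .c, .d, .e, .b, .c, .d, .h, .j, .g, .f, .e, .d, .c, .b], .a),
  (20643, [.i, .e, .d, .h, .e, .f, .g, .d, .e, .f, .c, .d, .e, .b, .c, .d, .h, .i, .h, .e, .f, .c, .d, .e, .b, .c, .d, .h, .j, .g, .f, .e, .d, .c, .b], .a),
  (20794, [.i, .c, .d, .h, .g, .j, .f, .g, .e, .f, .c, .d, .e, .b, .c, .d, .h, .i, .g, .e, .f, .c, .d, .e, .b, .c, .d, .h, .j, .g, .f, .e, .d, .c, .b], .a),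
  (20808, [.i, .g, .f, .e, .d, .h, .f, .g, .e, .f, .c, .d, .e, .b, .c, .d, .h, .i, .g, .e, .f, .c, .d, .e, .b, .c, .d, .h, .j, .g, .f, .e, .d, .c, .b], .a),
  (21053, [.i, .e, .b, .c, .d, .h, .j, .g, .e, .f, .c, .d, .e, .a, .b, .c, .d, .h, .i, .g, .f, .c, .d, .e, .b, .c, .d, .h, .j, .g, .f, .e, .d, .c, .b], .a),
  (21149, [.h, .i, .e, .d, .h, .f, .g, .d, .e, .f, .c, .d, .e, .b, .c, .d, .h, .i, .g, .f, .d, .e, .b, .c, .d, .h, .j, .g, .f, .e, .d, .c, .b], .a),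
  (21181, [.i, .c, .d, .h, .e, .f, .g, .d, .e, .f, .c, .d, .e, .b, .c, .d, .h, .i, .f, .c, .d, .e, .b, .c, .d, .h, .j, .g, .f, .e, .d, .c, .b], .a),
  (21316, [.d, .h, .i, .e, .c, .d, .h, .j, .g, .e, .f, .c, .d, .e, .b, .c, .d, .h, .i, .h, .g, .f, .d, .e, .b, .c, .d, .h, .j, .g, .f, .e, .d, .c, .b], .a),
  (21376, [.d, .h, .i, .b, .c, .d, .h, .g, .e, .f, .d, .e, .a, .b, .c, .d, .h, .i, .e, .f, .d, .e, .b, .c, .d, .h, .j, .g, .f, .e, .d, .c, .b], .a),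
  (22222, [.h, .i, .g, .f, .e, .c, .d, .h, .f, .g, .e, .f, .c, .d, .e, .b, .c, .d, .h, .i, .f, .d, .e, .b, .c, .d, .h, .j, .g, .f, .e, .d, .c, .b], .a),
  (22250, [.h, .i, .d, .e, .b, .c, .d, .h, .f, .g, .d, .e, .f, .c, .d, .e, .b, .c, .d, .h, .i, .d, .e, .b, .c, .d, .h, .j, .g, .f, .e, .d, .c, .b], .a),
  (22354, [.d, .h, .i, .d, .e, .c, .d, .h, .f, .g, .e, .f, .d, .e, .b, .c, .d, .h, .i, .h, .e, .f, .c, .d, .e, .b, .c, .d, .h, .j, .g, .f, .e, .d, .c, .b], .a),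
  (22403, [.d, .h, .i, .f, .e, .d, .h, .f, .g, .e, .f, .c, .d, .e, .b, .c, .d, .h, .i, .g, .e, .f, .c, .d, .e, .b, .c, .d, .h, .j, .g, .f, .e, .d, .c, .b], .a),
  (22458, [.i, .j, .g, .f, .e, .c, .d, .h, .f, .g, .e, .f, .c, .d, .e, .b, .c, .d, .h, .i, .g, .f, .c, .d, .e, .b, .c, .d, .h, .j, .g, .f, .e, .d, .c, .b], .a),
  (22490, [.i, .h, .d, .e, .a, .b, .c, .d, .h, .f, .g, .e, .f, .d, .e, .b, .c, .d, .h, .i, .g, .f, .c, .d, .e, .b, .c, .d, .h, .j, .g, .f, .e, .d, .c, .b], .a),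
  (22602, [.h, .i, .f, .e, .b, .c, .d, .h, .f, .g, .d, .e, .f, .c, .d, .e, .b, .c, .d, .h, .i, .g, .f, .d, .e, .b, .c, .d, .h, .j, .g, .f, .e, .d, .c, .b], .a),
  (22668, [.i, .d, .e, .c, .d, .h, .f, .g, .d, .e, .f, .c, .d, .e, .b, .c, .d, .h, .i, .g, .f, .d, .e, .b, .c, .d, .h, .j, .g, .f, .e, .d, .c, .b], .a),
  (22715, [.i, .e, .a, .b, .c, .d, .h, .f, .g, .e, .f, .c, .d, .e, .b, .c, .d, .h, .i, .g, .f, .d, .e, .b, .c, .d, .h, .j, .g, .f, .e, .d, .c, .b], .a),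
  (22913, [.d, .h, .i, .f, .e, .c, .d, .h, .g, .e, .f, .c, .d, .e, .b, .c, .d, .h, .i, .e, .f, .d, .e, .b, .c, .d, .h, .j, .g, .f, .e, .d, .c, .b], .a),
  (23180, [.h, .i, .e, .d, .h, .f, .g, .e, .f, .b, .c, .d, .e, .a, .b, .c, .d, .h, .i, .h, .f, .c, .d, .e, .b, .c, .d, .h, .j, .g, .f, .e, .d, .c, .b], .a),
  (23202, [.f, .e, .d, .h, .j, .e, .f, .g, .d, .e, .f, .c, .d, .e, .b, .c, .d, .h, .i, .g, .f, .c, .d, .e, .b, .c, .d, .h, .j, .g, .f, .e, .d, .c, .b], .a),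
  (23227, [.d, .h, .i, .c, .d, .h, .j, .g, .d, .e, .f, .c, .d, .e, .b, .c, .d, .h, .i, .g, .f, .c, .d, .e, .b, .c, .d, .h, .j, .g, .f, .e, .d, .c, .b], .a),
  (23248, [.h, .i, .d, .e, .c, .d, .h, .f, .g, .e, .f, .c, .d, .e, .b, .c, .d, .h, .i, .g, .f, .c, .d, .e, .b, .c, .d, .h, .j, .g, .f, .e, .d, .c, .b], .a),
  (23274, [.h, .i, .d, .e, .b, .c, .d, .h, .f, .g, .e, .f, .d, .e, .b, .c, .d, .h, .i, .g, .f, .c, .d, .e, .b, .c, .d, .h, .j, .g, .f, .e, .d, .c, .b], .a),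
  (23318, [.c, .d, .h, .i, .e, .d, .h, .f, .g, .e, .f, .c, .d, .e, .a, .b, .c, .d, .h, .i, .h, .g, .f, .c, .d, .e, .b, .c, .d, .h, .j, .g, .f, .e, .d, .c, .b], .a),
  (23358, [.i, .f, .d, .e, .c, .d, .h, .f, .g, .d, .e, .f, .c, .d, .e, .b, .c, .d, .h, .i, .h, .g, .f, .c, .d, .e, .b, .c, .d, .h, .j, .g, .f, .e, .d, .c, .b], .a),
  (23526, [.d, .h, .i, .d, .e, .c, .d, .h, .f, .g, .e, .f, .d, .e, .b, .c, .d, .h, .i, .e, .f, .c, .d, .e, .b, .c, .d, .h, .j, .g, .f, .e, .d, .c, .b], .a),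
  (23621, [.d, .h, .i, .f, .e, .b, .c, .d, .h, .g, .d, .e, .f, .c, .d, .e, .b, .c, .d, .h, .i, .f, .d, .e, .b, .c, .d, .h, .j, .g, .f, .e, .d, .c, .b], .a),
  (23675, [.d, .e, .c, .d, .h, .i, .f, .e, .d, .h, .g, .f, .c, .d, .e, .b, .c, .d, .h, .i, .h, .e, .f, .c, .d, .e, .b, .c, .d, .h, .j, .g, .f, .e, .d, .c, .b], .a),
  (23694, [.h, .i, .e, .d, .h, .g, .j, .f, .g, .e, .f, .c, .d, .e, .a, .b, .c, .d, .h, .i, .g, .e, .f, .c, .d, .e, .b, .c, .d, .h, .j, .g, .f, .e, .d, .c, .b], .a),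
  (23738, [.h, .i, .j, .g, .f, .e, .c, .d, .h, .f, .g, .e, .f, .c, .d, .e, .b, .c, .d, .h, .i, .g, .e, .f, .d, .e, .b, .c, .d, .h, .j, .g, .f, .e, .d, .c, .b], .a),
  (23799, [.f, .e, .c, .d, .h, .i, .e, .c, .d, .h, .f, .g, .e, .f, .d, .e, .b, .c, .d, .h, .i, .e, .f, .c, .d, .e, .b, .c, .d, .h, .j, .g, .f, .e, .d, .c, .b], .a),
  (23805, [.h, .i, .a, .b, .c, .d, .h, .e, .f, .g, .d, .e, .f, .c, .d, .e, .b, .c, .d, .h, .i, .h, .f, .c, .d, .e, .b, .c, .d, .h, .j, .g, .f, .e, .d, .c, .b], .a),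
  (23825, [.h, .i, .f, .e, .d, .h, .e, .f, .g, .d, .e, .f, .c, .d, .e, .a, .b, .c, .d, .h, .i, .g, .f, .c, .d, .e, .b, .c, .d, .h, .j, .g, .f, .e, .d, .c, .b], .a),
  (23835, [.e, .d, .h, .i, .f, .e, .c, .d, .h, .j, .f, .g, .e, .f, .c, .d, .e, .b, .c, .d, .h, .i, .g, .f, .d, .e, .b, .c, .d, .h, .j, .g, .f, .e, .d, .c, .b], .a),
  (23951, [.c, .d, .h, .i, .g, .f, .e, .d, .h, .j, .g, .f, .c, .d, .e, .a, .b, .c, .d, .h, .i, .g, .f, .c, .d, .e, .b, .c, .d, .h, .j, .g, .f, .e, .d, .c, .b], .a),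
  (23982, [.d, .h, .i, .e, .d, .h, .g, .j, .f, .g, .e, .f, .c, .d, .e, .b, .c, .d, .h, .i, .f, .c, .d, .e, .b, .c, .d, .h, .j, .g, .f, .e, .d, .c, .b], .a),
  (24131, [.e, .c, .d, .h, .i, .e, .c, .d, .h, .f, .g, .e, .f, .c, .d, .e, .b, .c, .d, .h, .i, .h, .g, .f, .d, .e, .b, .c, .d, .h, .j, .g, .f, .e, .d, .c, .b], .a),
  (24138, [.d, .h, .i, .b, .c, .d, .h, .j, .g, .d, .e, .f, .c, .d, .e, .a, .b, .c, .d, .h, .i, .g, .f, .c, .d, .e, .b, .c, .d, .h, .j, .g, .f, .e, .d, .c, .b], .a),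
  (24316, [.c, .d, .h, .i, .e, .b, .c, .d, .h, .f, .g, .d, .e, .f, .c, .d, .e, .b, .c, .d, .h, .i, .h, .g, .e, .f, .d, .e, .b, .c, .d, .h, .j, .g, .f, .e, .d, .c, .b], .a),
  (24325, [.c, .d, .h, .i, .e, .c, .d, .h, .f, .g, .d, .e, .f, .c, .d, .e, .a, .b, .c, .d, .h, .i, .g, .f, .d, .e, .b, .c, .d, .h, .j, .g, .f, .e, .d, .c, .b], .a),
  (24391, [.e, .d, .h, .i, .a, .b, .c, .d, .h, .e, .f, .g, .d, .e, .f, .c, .d, .e, .b, .c, .d, .h, .i, .c, .d, .e, .b, .c, .d, .h, .j, .g, .f, .e, .d, .c, .b], .a),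
  (24419, [.c, .d, .h, .i, .e, .d, .h, .f, .g, .d, .e, .f, .c, .d, .e, .b, .c, .d, .h, .i, .h, .f, .c, .d, .e, .b, .c, .d, .h, .j, .g, .f, .e, .d, .c, .b], .a),
  (24427, [.e, .d, .h, .i, .f, .e, .d, .h, .f, .g, .e, .f, .c, .d, .e, .b, .c, .d, .h, .i, .h, .f, .c, .d, .e, .b, .c, .d, .h, .j, .g, .f, .e, .d, .c, .b], .a),
  (24455, [.d, .h, .i, .f, .e, .d, .h, .f, .g, .d, .e, .f, .c, .d, .e, .b, .c, .d, .h, .i, .g, .f, .c, .d, .e, .b, .c, .d, .h, .j, .g, .f, .e, .d, .c, .b], .a),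
  (24481, [.e, .d, .h, .i, .e, .c, .d, .h, .f, .g, .e, .f, .c, .d, .e, .b, .c, .d, .h, .i, .g, .f, .c, .d, .e, .b, .c, .d, .h, .j, .g, .f, .e, .d, .c, .b], .a),
  (24579, [.d, .h, .i, .e, .b, .c, .d, .h, .f, .g, .d, .e, .f, .c, .d, .e, .b, .c, .d, .h, .i, .h, .g, .f, .c, .d, .e, .b, .c, .d, .h, .j, .g, .f, .e, .d, .c, .b], .a),
  (24621, [.d, .h, .i, .f, .e, .b, .c, .d, .h, .f, .g, .e, .f, .c, .d, .e, .b, .c, .d, .h, .i, .h, .g, .f, .c, .d, .e, .b, .c, .d, .h, .j, .g, .f, .e, .d, .c, .b], .a),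
  (24779, [.h, .i, .d, .e, .b, .c, .d, .h, .f, .g, .d, .e, .f, .c, .d, .e, .b, .c, .d, .h, .i, .e, .f, .d, .e, .b, .c, .d, .h, .j, .g, .f, .e, .d, .c, .b], .a),
  (24803, [.c, .d, .h, .i, .e, .b, .c, .d, .h, .f, .g, .e, .f, .c, .d, .e, .b, .c, .d, .h, .i, .f, .c, .d, .e, .b, .c, .d, .h, .j, .g, .f, .e, .d, .c, .b], .a),
  (24967, [.f, .e, .d, .h, .i, .e, .b, .c, .d, .h, .f, .g, .e, .f, .c, .d, .e, .b, .c, .d, .h, .i, .g, .f, .c, .d, .e, .b, .c, .d, .h, .j, .g, .f, .e, .d, .c, .b], .a),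
  (25121, [.e, .c, .d, .h, .i, .f, .e, .d, .h, .j, .g, .e, .f, .c, .d, .e, .a, .b, .c, .d, .h, .i, .g, .f, .c, .d, .e, .b, .c, .d, .h, .j, .g, .f, .e, .d, .c, .b], .a),
  (25409, [.c, .d, .h, .i, .e, .d, .h, .g, .j, .f, .g, .e, .f, .c, .d, .e, .a, .b, .c, .d, .h, .i, .g, .e, .f, .d, .e, .b, .c, .d, .h, .j, .g, .f, .e, .d, .c, .b], .a),
  (25454, [.b, .c, .d, .h, .i, .g, .f, .e, .d, .h, .j, .f, .g, .e, .f, .c, .d, .e, .b, .c, .d, .h, .i, .g, .f, .d, .e, .b, .c, .d, .h, .j, .g, .f, .e, .d, .c, .b], .a),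
  (25473, [.b, .c, .d, .h, .i, .e, .a, .b, .c, .d, .h, .j, .f, .g, .e, .f, .c, .d, .e, .b, .c, .d, .h, .i, .g, .f, .c, .d, .e, .b, .c, .d, .h, .j, .g, .f, .e, .d, .c, .b], .a),
  (25513, [.c, .d, .h, .i, .f, .e, .d, .h, .e, .f, .g, .d, .e, .f, .c, .d, .e, .b, .c, .d, .h, .i, .h, .f, .c, .d, .e, .b, .c, .d, .h, .j, .g, .f, .e, .d, .c, .b], .a),
  (25674, [.c, .d, .h, .i, .g, .f, .e, .c, .d, .h, .f, .g, .e, .f, .c, .d, .e, .b, .c, .d, .h, .i, .g, .e, .f, .c, .d, .e, .b, .c, .d, .h, .j, .g, .f, .e, .d, .c, .b], .a),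
  (25779, [.d, .h, .i, .d, .e, .a, .b, .c, .d, .h, .f, .g, .e, .f, .c, .d, .e, .b, .c, .d, .h, .i, .e, .f, .d, .e, .b, .c, .d, .h, .j, .g, .f, .e, .d, .c, .b], .a),
  (25792, [.b, .c, .d, .h, .i, .e, .b, .c, .d, .h, .f, .g, .e, .f, .c, .d, .e, .b, .c, .d, .h, .i, .h, .g, .f, .c, .d, .e, .b, .c, .d, .h, .j, .g, .f, .e, .d, .c, .b], .a),
  (25841, [.e, .d, .h, .i, .c, .d, .h, .e, .f, .g, .d, .e, .f, .c, .d, .e, .b, .c, .d, .h, .i, .e, .f, .c, .d, .e, .b, .c, .d, .h, .j, .g, .f, .e, .d, .c, .b], .a),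
  (25898, [.b, .c, .d, .h, .i, .g, .f, .e, .d, .h, .f, .g, .d, .e, .f, .c, .d, .e, .b, .c, .d, .h, .i, .f, .d, .e, .b, .c, .d, .h, .j, .g, .f, .e, .d, .c, .b], .a),
  (26020, [.e, .d, .h, .i, .h, .d, .e, .b, .c, .d, .h, .f, .g, .e, .f, .d, .e, .b, .c, .d, .h, .i, .e, .f, .d, .e, .b, .c, .d, .h, .j, .g, .f, .e, .d, .c, .b], .a),
  (26149, [.d, .h, .i, .h, .j, .g, .f, .d, .e, .c, .d, .h, .f, .g, .e, .f, .c, .d, .e, .b, .c, .d, .h, .i, .f, .c, .d, .e, .b, .c, .d, .h, .j, .g, .f, .e, .d, .c, .b], .a),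
  (26155, [.e, .d, .h, .i, .d, .e, .b, .c, .d, .h, .e, .f, .g, .d, .e, .f, .c, .d, .e, .b, .c, .d, .h, .i, .d, .e, .b, .c, .d, .h, .j, .g, .f, .e, .d, .c, .b], .a),
  (26210, [.e, .d, .h, .i, .a, .b, .c, .d, .h, .e, .f, .g, .d, .e, .f, .c, .d, .e, .b, .c, .d, .h, .i, .e, .f, .c, .d, .e, .b, .c, .d, .h, .j, .g, .f, .e, .d, .c, .b], .a),
  (26273, [.f, .e, .d, .h, .i, .h, .d, .e, .c, .d, .h, .f, .g, .d, .e, .f, .c, .d, .e, .b, .c, .d, .h, .i, .g, .f, .d, .e, .b, .c, .d, .h, .j, .g, .f, .e, .d, .c, .b], .a),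
  (26290, [.f, .e, .c, .d, .h, .i, .e, .c, .d, .h, .f, .g, .d, .e, .f, .c, .d, .e, .b, .c, .d, .h, .i, .h, .g, .f, .d, .e, .b, .c, .d, .h, .j, .g, .f, .e, .d, .c, .b], .a),
  (26515, [.f, .e, .b, .c, .d, .h, .i, .e, .c, .d, .h, .f, .g, .e, .f, .c, .d, .e, .b, .c, .d, .h, .i, .h, .g, .f, .d, .e, .b, .c, .d, .h, .j, .g, .f, .e, .d, .c, .b], .a),
  (26546, [.a, .b, .c, .d, .h, .i, .e, .c, .d, .h, .f, .g, .e, .f, .c, .d, .e, .b, .c, .d, .h, .i, .e, .f, .d, .e, .b, .c, .d, .h, .j, .g, .f, .e, .d, .c, .b], .a),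
  (26615, [.c, .d, .h, .i, .h, .d, .e, .b, .c, .d, .h, .f, .g, .e, .f, .c, .d, .e, .b, .c, .d, .h, .i, .e, .f, .c, .d, .e, .b, .c, .d, .h, .j, .g, .f, .e, .d, .c, .b], .a),
  (26666, [.e, .d, .h, .i, .h, .d, .e, .b, .c, .d, .h, .f, .g, .d, .e, .f, .c, .d, .e, .b, .c, .d, .h, .i, .g, .f, .d, .e, .b, .c, .d, .h, .j, .g, .f, .e, .d, .c, .b], .a),
  (26842, [.a, .b, .c, .d, .h, .i, .e, .c, .d, .h, .f, .g, .e, .f, .c, .d, .e, .b, .c, .d, .h, .i, .g, .f, .c, .d, .e, .b, .c, .d, .h, .j, .g, .f, .e, .d, .c, .b], .a),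
  (26951, [.e, .c, .d, .h, .i, .d, .e, .c, .d, .h, .f, .g, .d, .e, .f, .c, .d, .e, .b, .c, .d, .h, .i, .h, .g, .f, .c, .d, .e, .b, .c, .d, .h, .j, .g, .f, .e, .d, .c, .b], .a),
  (26953, [.b, .c, .d, .h, .i, .f, .e, .c, .d, .h, .f, .g, .d, .e, .f, .c, .d, .e, .b, .c, .d, .h, .i, .h, .g, .f, .c, .d, .e, .b, .c, .d, .h, .j, .g, .f, .e, .d, .c, .b], .a),
  (27020, [.j, .g, .f, .e, .d, .h, .i, .e, .c, .d, .h, .f, .g, .e, .f, .c, .d, .e, .b, .c, .d, .h, .i, .g, .f, .d, .e, .b, .c, .d, .h, .j, .g, .f, .e, .d, .c, .b], .a),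
  (27032, [.b, .c, .d, .h, .i, .e, .d, .h, .j, .f, .g, .e, .f, .c, .d, .e, .a, .b, .c, .d, .h, .i, .e, .f, .c, .d, .e, .b, .c, .d, .h, .j, .g, .f, .e, .d, .c, .b], .a),
  (27098, [.c, .d, .h, .i, .g, .f, .e, .d, .h, .j, .f, .g, .e, .f, .c, .d, .e, .a, .b, .c, .d, .h, .i, .f, .c, .d, .e, .b, .c, .d, .h, .j, .g, .f, .e, .d, .c, .b], .a),
  (27279, [.a, .b, .c, .d, .h, .i, .d, .e, .c, .d, .h, .f, .g, .e, .f, .c, .d, .e, .b, .c, .d, .h, .i, .g, .e, .f, .c, .d, .e, .b, .c, .d, .h, .j, .g, .f, .e, .d, .c, .b], .a),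
  (27304, [.b, .c, .d, .h, .i, .e, .b, .c, .d, .h, .g, .j, .f, .g, .e, .f, .c, .d, .e, .b, .c, .d, .h, .i, .g, .f, .c, .d, .e, .b, .c, .d, .h, .j, .g, .f, .e, .d, .c, .b], .a),
  (27339, [.a, .b, .c, .d, .h, .i, .j, .g, .f, .e, .c, .d, .h, .f, .g, .e, .f, .c, .d, .e, .b, .c, .d, .h, .i, .g, .f, .d, .e, .b, .c, .d, .h, .j, .g, .f, .e, .d, .c, .b], .a),
  (27373, [.b, .c, .d, .h, .i, .h, .f, .d, .e, .b, .c, .d, .h, .f, .g, .d, .e, .f, .c, .d, .e, .b, .c, .d, .h, .i, .f, .d, .e, .b, .c, .d, .h, .j, .g, .f, .e, .d, .c, .b], .a),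
  (27459, [.a, .b, .c, .d, .h, .i, .c, .d, .e, .b, .c, .d, .h, .f, .g, .e, .f, .c, .d, .e, .b, .c, .d, .h, .i, .f, .c, .d, .e, .b, .c, .d, .h, .j, .g, .f, .e, .d, .c, .b], .a),
  (27587, [.e, .c, .d, .h, .i, .e, .c, .d, .h, .e, .f, .g, .d, .e, .f, .c, .d, .e, .b, .c, .d, .h, .i, .g, .f, .d, .e, .b, .c, .d, .h, .j, .g, .f, .e, .d, .c, .b], .a),
  (27600, [.e, .d, .h, .i, .e, .b, .c, .d, .h, .e, .f, .g, .d, .e, .f, .c, .d, .e, .b, .c, .d, .h, .i, .f, .c, .d, .e, .b, .c, .d, .h, .j, .g, .f, .e, .d, .c, .b], .a),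
  (27666, [.e, .b, .c, .d, .h, .i, .e, .b, .c, .d, .h, .f, .g, .d, .e, .f, .c, .d, .e, .b, .c, .d, .h, .i, .h, .g, .f, .d, .e, .b, .c, .d, .h, .j, .g, .f, .e, .d, .c, .b], .a),
  (27699, [.g, .f, .e, .d, .h, .i, .e, .c, .d, .h, .g, .j, .f, .g, .e, .f, .c, .d, .e, .b, .c, .d, .h, .i, .g, .f, .c, .d, .e, .b, .c, .d, .h, .j, .g, .f, .e, .d, .c, .b], .a),
  (27931, [.a, .b, .c, .d, .h, .i, .e, .d, .h, .j, .f, .g, .e, .f, .c, .d, .e, .b, .c, .d, .h, .i, .f, .c, .d, .e, .b, .c, .d, .h, .j, .g, .f, .e, .d, .c, .b], .a),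
  (28017, [.e, .d, .h, .i, .h, .f, .d, .e, .c, .d, .h, .f, .g, .e, .f, .c, .d, .e, .b, .c, .d, .h, .i, .g, .f, .c, .d, .e, .b, .c, .d, .h, .j, .g, .f, .e, .d, .c, .b], .a),
  (28054, [.e, .c, .d, .h, .i, .g, .f, .e, .d, .h, .e, .f, .g, .d, .e, .f, .c, .d, .e, .b, .c, .d, .h, .i, .g, .e, .f, .c, .d, .e, .b, .c, .d, .h, .j, .g, .f, .e, .d, .c, .b], .a),
  (28172, [.a, .b, .c, .d, .h, .i, .g, .f, .d, .e, .c, .d, .h, .f, .g, .e, .f, .c, .d, .e, .b, .c, .d, .h, .i, .f, .d, .e, .b, .c, .d, .h, .j, .g, .f, .e, .d, .c, .b], .a),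
  (28324, [.b, .c, .d, .h, .i, .f, .e, .c, .d, .h, .e, .f, .g, .d, .e, .f, .c, .d, .e, .b, .c, .d, .h, .i, .h, .e, .f, .c, .d, .e, .b, .c, .d, .h, .j, .g, .f, .e, .d, .c, .b], .a),
  (28413, [.g, .f, .e, .c, .d, .h, .i, .d, .e, .c, .d, .h, .f, .g, .e, .f, .c, .d, .e, .b, .c, .d, .h, .i, .h, .e, .f, .c, .d, .e, .b, .c, .d, .h, .j, .g, .f, .e, .d, .c, .b], .a),
  (28675, [.b, .c, .d, .h, .i, .f, .e, .c, .d, .h, .e, .f, .g, .d, .e, .f, .c, .d, .e, .b, .c, .d, .h, .i, .f, .c, .d, .e, .b, .c, .d, .h, .j, .g, .f, .e, .d, .c, .b], .a),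
  (28768, [.g, .f, .e, .c, .d, .h, .i, .e, .c, .d, .h, .e, .f, .g, .d, .e, .f, .c, .d, .e, .b, .c, .d, .h, .i, .f, .d, .e, .b, .c, .d, .h, .j, .g, .f, .e, .d, .c, .b], .a),
  (28783, [.e, .b, .c, .d, .h, .i, .e, .b, .c, .d, .h, .e, .f, .g, .d, .e, .f, .c, .d, .e, .b, .c, .d, .h, .i, .h, .g, .f, .d, .e, .b, .c, .d, .h, .j, .g, .f, .e, .d, .c, .b], .a),
  (28823, [.d, .e, .b, .c, .d, .h, .i, .f, .e, .d, .h, .e, .f, .g, .d, .e, .f, .c, .d, .e, .a, .b, .c, .d, .h, .i, .f, .c, .d, .e, .b, .c, .d, .h, .j, .g, .f, .e, .d, .c, .b], .a),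
  (28843, [.a, .b, .c, .d, .h, .i, .e, .b, .c, .d, .h, .f, .g, .d, .e, .f, .c, .d, .e, .a, .b, .c, .d, .h, .i, .g, .f, .c, .d, .e, .b, .c, .d, .h, .j, .g, .f, .e, .d, .c, .b], .a),
  (28881, [.a, .b, .c, .d, .h, .i, .f, .d, .e, .c, .d, .h, .f, .g, .e, .f, .c, .d, .e, .b, .c, .d, .h, .i, .e, .f, .d, .e, .b, .c, .d, .h, .j, .g, .f, .e, .d, .c, .b], .a),
  (28901, [.e, .b, .c, .d, .h, .i, .f, .e, .d, .h, .g, .j, .f, .g, .d, .e, .f, .c, .d, .e, .b, .c, .d, .h, .i, .g, .f, .c, .d, .e, .b, .c, .d, .h, .j, .g, .f, .e, .d, .c, .b], .a),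
  (28906, [.e, .a, .b, .c, .d, .h, .i, .f, .e, .d, .h, .f, .g, .e, .f, .b, .c, .d, .e, .a, .b, .c, .d, .h, .i, .e, .f, .c, .d, .e, .b, .c, .d, .h, .j, .g, .f, .e, .d, .c, .b], .a),
  (29081, [.b, .c, .d, .h, .i, .h, .f, .d, .e, .c, .d, .h, .f, .g, .e, .f, .c, .d, .e, .b, .c, .d, .h, .i, .g, .f, .c, .d, .e, .b, .c, .d, .h, .j, .g, .f, .e, .d, .c, .b], .a),
  (29213, [.d, .e, .c, .d, .h, .i, .g, .f, .d, .e, .c, .d, .h, .f, .g, .e, .f, .c, .d, .e, .b, .c, .d, .h, .i, .f, .c, .d, .e, .b, .c, .d, .h, .j, .g, .f, .e, .d, .c, .b], .a),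
  (29344, [.a, .b, .c, .d, .h, .i, .d, .e, .c, .d, .h, .e, .f, .g, .d, .e, .f, .c, .d, .e, .b, .c, .d, .h, .i, .h, .e, .f, .c, .d, .e, .b, .c, .d, .h, .j, .g, .f, .e, .d, .c, .b], .a),
  (29503, [.f, .d, .e, .a, .b, .c, .d, .h, .i, .d, .e, .c, .d, .h, .f, .g, .e, .f, .c, .d, .e, .b, .c, .d, .h, .i, .e, .f, .c, .d, .e, .b, .c, .d, .h, .j, .g, .f, .e, .d, .c, .b], .a),
  (29570, [.d, .e, .c, .d, .h, .i, .h, .d, .e, .c, .d, .h, .f, .g, .e, .f, .b, .c, .d, .e, .a, .b, .c, .d, .h, .i, .g, .f, .c, .d, .e, .b, .c, .d, .h, .j, .g, .f, .e, .d, .c, .b], .a),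
  (29632, [.h, .d, .e, .a, .b, .c, .d, .h, .i, .g, .f, .e, .d, .h, .j, .f, .g, .e, .f, .c, .d, .e, .b, .c, .d, .h, .i, .f, .c, .d, .e, .b, .c, .d, .h, .j, .g, .f, .e, .d, .c, .b], .a),
  (29714, [.g, .f, .e, .b, .c, .d, .h, .i, .e, .c, .d, .h, .j, .f, .g, .e, .f, .c, .d, .e, .a, .b, .c, .d, .h, .i, .g, .f, .c, .d, .e, .b, .c, .d, .h, .j, .g, .f, .e, .d, .c, .b], .a),
  (30038, [.e, .b, .c, .d, .h, .i, .j, .g, .f, .d, .e, .c, .d, .h, .f, .g, .e, .f, .c, .d, .e, .b, .c, .d, .h, .i, .f, .c, .d, .e, .b, .c, .d, .h, .j, .g, .f, .e, .d, .c, .b], .a),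
  (30257, [.e, .a, .b, .c, .d, .h, .i, .h, .j, .g, .f, .d, .e, .c, .d, .h, .f, .g, .e, .f, .c, .d, .e, .b, .c, .d, .h, .i, .f, .c, .d, .e, .b, .c, .d, .h, .j, .g, .f, .e, .d, .c, .b], .a),
  (30295, [.c, .d, .e, .a, .b, .c, .d, .h, .i, .f, .e, .d, .h, .e, .f, .g, .d, .e, .f, .c, .d, .e, .b, .c, .d, .h, .i, .h, .g, .e, .f, .c, .d, .e, .b, .c, .d, .h, .j, .g, .f, .e, .d, .c, .b], .a),
  (30344, [.e, .f, .d, .e, .b, .c, .d, .h, .i, .g, .f, .e, .d, .h, .j, .f, .g, .e, .f, .c, .d, .e, .b, .c, .d, .h, .i, .g, .f, .c, .d, .e, .b, .c, .d, .h, .j, .g, .f, .e, .d, .c, .b], .a),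
  (30371, [.f, .c, .d, .e, .b, .c, .d, .h, .i, .h, .d, .e, .c, .d, .h, .f, .g, .d, .e, .f, .c, .d, .e, .b, .c, .d, .h, .i, .g, .f, .d, .e, .b, .c, .d, .h, .j, .g, .f, .e, .d, .c, .b], .a),
  (30417, [.f, .e, .a, .b, .c, .d, .h, .i, .e, .c, .d, .h, .e, .f, .g, .d, .e, .f, .c, .d, .e, .a, .b, .c, .d, .h, .i, .g, .f, .c, .d, .e, .b, .c, .d, .h, .j, .g, .f, .e, .d, .c, .b], .a),
  (30521, [.h, .d, .e, .c, .d, .h, .i, .f, .e, .c, .d, .h, .e, .f, .g, .d, .e, .f, .c, .d, .e, .b, .c, .d, .h, .i, .g, .f, .c, .d, .e, .b, .c, .d, .h, .j, .g, .f, .e, .d, .c, .b], .a),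
  (30575, [.i, .h, .d, .e, .a, .b, .c, .d, .h, .i, .f, .e, .d, .h, .f, .g, .e, .f, .c, .d, .e, .b, .c, .d, .h, .i, .g, .f, .c, .d, .e, .b, .c, .d, .h, .j, .g, .f, .e, .d, .c, .b], .a),
  (30585, [.c, .d, .e, .b, .c, .d, .h, .i, .f, .d, .e, .c, .d, .h, .f, .g, .e, .f, .c, .d, .e, .a, .b, .c, .d, .h, .i, .f, .c, .d, .e, .b, .c, .d, .h, .j, .g, .f, .e, .d, .c, .b], .a),
  (30630, [.d, .e, .b, .c, .d, .h, .i, .h, .g, .f, .d, .e, .c, .d, .h, .f, .g, .e, .f, .c, .d, .e, .b, .c, .d, .h, .i, .f, .c, .d, .e, .b, .c, .d, .h, .j, .g, .f, .e, .d, .c, .b], .a),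
  (30734, [.h, .d, .e, .a, .b, .c, .d, .h, .i, .f, .e, .d, .h, .f, .g, .d, .e, .f, .c, .d, .e, .a, .b, .c, .d, .h, .i, .f, .c, .d, .e, .b, .c, .d, .h, .j, .g, .f, .e, .d, .c, .b], .a),
  (30931, [.c, .d, .e, .a, .b, .c, .d, .h, .i, .h, .d, .e, .c, .d, .h, .f, .g, .d, .e, .f, .c, .d, .e, .b, .c, .d, .h, .i, .h, .g, .f, .d, .e, .b, .c, .d, .h, .j, .g, .f, .e, .d, .c, .b], .a),
  (31076, [.f, .d, .e, .a, .b, .c, .d, .h, .i, .f, .e, .c, .d, .h, .e, .f, .g, .d, .e, .f, .c, .d, .e, .b, .c, .d, .h, .i, .h, .g, .f, .c, .d, .e, .b, .c, .d, .h, .j, .g, .f, .e, .d, .c, .b], .a),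
  (31226, [.h, .d, .e, .a, .b, .c, .d, .h, .i, .e, .b, .c, .d, .h, .e, .f, .g, .d, .e, .f, .c, .d, .e, .b, .c, .d, .h, .i, .f, .c, .d, .e, .b, .c, .d, .h, .j, .g, .f, .e, .d, .c, .b], .a),
  (31370, [.b, .c, .d, .e, .a, .b, .c, .d, .h, .i, .d, .e, .c, .d, .h, .f, .g, .d, .e, .f, .c, .d, .e, .a, .b, .c, .d, .h, .i, .h, .g, .f, .c, .d, .e, .b, .c, .d, .h, .j, .g, .f, .e, .d, .c, .b], .a),
  (31376, [.f, .d, .e, .a, .b, .c, .d, .h, .i, .h, .d, .e, .c, .d, .h, .e, .f, .g, .d, .e, .f, .c, .d, .e, .b, .c, .d, .h, .i, .g, .f, .d, .e, .b, .c, .d, .h, .j, .g, .f, .e, .d, .c, .b], .a),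
  (31588, [.h, .b, .c, .d, .e, .a, .b, .c, .d, .h, .i, .g, .f, .e, .d, .h, .e, .f, .g, .d, .e, .f, .c, .d, .e, .b, .c, .d, .h, .i, .f, .c, .d, .e, .b, .c, .d, .h, .j, .g, .f, .e, .d, .c, .b], .a),
  (0, [.j, .g, .f, .e, .d, .h, .c, .d, .e, .b, .c, .d, .h, .f, .g, .e, .f, .d, .e, .c, .d, .h, .j, .g, .f, .e, .d, .c], .b),
  (1658, [.e, .f, .d, .e, .b, .c, .d, .h, .i, .h, .f, .g, .e, .f, .d, .e, .c, .d, .h, .j, .g, .f, .e, .d, .c, .b], .a),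
  (8, [.h, .d, .e, .c, .d, .h, .f, .g, .e, .f, .d, .e, .c, .d, .h, .j, .g, .f, .e, .d, .c], .b),
  (15237, [.e, .c, .d, .h, .j, .g, .e, .f, .c, .d, .e, .b, .c, .d, .h, .i, .h, .g, .f, .d, .e, .b, .c, .d, .h, .j, .g, .f, .e, .d, .c, .b], .a),
  (10, [.c, .d, .h, .e, .f, .d, .e, .c, .d, .h, .i, .g, .f, .e, .d, .h, .j, .g, .f, .e, .d], .c),
  (16, [.e, .c, .d, .h, .f, .g, .e, .f, .d, .e, .c, .d, .h, .j, .g, .f, .e, .d, .c], .b),
  (29697, [.e, .a, .b, .c, .d, .h, .i, .e, .c, .d, .h, .e, .f, .g, .d, .e, .f, .c, .d, .e, .b, .c, .d, .h, .i, .f, .c, .d, .e, .b, .c, .d, .h, .j, .g, .f, .e, .d, .c, .b], .a),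
  (43, [.i, .c, .d, .h, .f, .g, .e, .f, .d, .e, .c, .d, .h, .j, .g, .f, .e, .d, .c, .b], .a),
  (7941, [.h, .j, .g, .d, .e, .f, .c, .d, .e, .b, .c, .d, .h, .i, .f, .g, .e, .f, .d, .e, .c, .d, .h, .j, .g, .f, .e, .d, .c, .b], .a),
  (6389, [.c, .d, .e, .a, .b, .c, .d, .h, .i, .f, .c, .d, .e, .b, .c, .d, .h, .g, .f, .e, .d, .c, .b], .a),
  (249, [.h, .e, .f, .d, .e, .b, .c, .d, .h, .g, .f, .e, .d, .c, .b], .a),
  (2481, [.h, .j, .g, .f, .d, .e, .c, .d, .h, .i, .f, .g, .e, .f, .d, .e, .c, .d, .h, .j, .g, .f, .e, .d, .c], .b),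
  (6526, [.c], .b),
  (559, [.j, .g, .f, .e, .d, .h, .i, .e, .d, .h, .f, .g, .e, .f, .d, .e, .b, .c, .d, .h, .j, .g, .f, .e, .d, .c, .b], .a),
  (199, [.a, .b, .c, .d, .h, .i, .g, .f, .e, .d, .h, .j, .g, .f, .e, .d], .c),
  (1423, [.c, .d, .h, .i, .e, .f, .g, .d, .e, .f, .c, .d, .e, .b, .c, .d, .h, .j, .g, .f, .e, .d, .c, .b], .a),
  (4239, [.j, .g, .f, .e, .d, .h, .i, .c, .d, .h, .e, .d, .c, .b], .a),
  (1, [.g, .f, .e, .d, .h, .c, .d, .e, .b, .c, .d, .h, .f, .g, .e, .f, .d, .e, .c, .d, .h, .j, .g, .f, .e, .d, .c], .b),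
  (6531, [.j], .g),
  (11589, [], .a),
  (5268, [.j, .g], .f),
  (8005, [], .g),
  (21138, [.d, .h, .i, .e, .b, .c, .d, .h, .e, .f, .c, .d, .e, .b, .c, .d, .h, .i, .h, .f, .d, .e, .b, .c, .d, .h, .j, .g, .f, .e, .d, .c, .b], .a),
  (6135, [.j, .g, .f, .c, .d, .e, .b, .c, .d, .h, .i, .f, .e, .b, .c, .d, .h, .g, .f, .e, .d, .c, .b], .a),
  (621, [.i, .h, .d, .e, .c, .d, .h, .f, .e, .d, .c], .b),
  (8003, [], .c),
  (7771, [.d, .h, .g, .e, .f, .d, .e, .a, .b, .c, .d, .h, .i, .g, .f, .d, .e, .b, .c, .d, .h, .j, .g, .f, .e, .d, .c, .b], .a),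
  (580, [.d, .h, .i, .e, .f, .d, .e, .c, .d, .h, .j, .g, .f, .e, .d, .c, .b], .a),
  (2426, [.j, .g, .f, .e, .c, .d, .h, .i, .h, .e, .f, .d, .e, .c, .d, .h, .g, .f, .e, .d, .c], .b),
  (2156, [.i, .h, .j, .g, .f, .e, .d, .c, .b], .a),
  (17, [.i, .d, .e, .c, .d, .h, .f, .g, .e, .f, .d, .e, .c, .d, .h, .j, .g, .f, .e, .d, .c], .b),
  (15268, [.i, .e, .d, .h, .j, .f, .g, .e, .f, .d, .e, .b, .c, .d, .h, .i, .g, .f, .c, .d, .e, .b, .c, .d, .h, .j, .g, .f, .e, .d, .c, .b], .a),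
  (2632, [.f, .d, .e, .c, .d, .h, .i, .f, .g, .d, .e, .f, .c, .d, .e, .b, .c, .d, .h, .j, .g, .f, .e, .d, .c, .b], .a),
  (17702, [.h, .i, .g, .f, .e, .d, .h, .f, .c, .d, .e, .a, .b, .c, .d, .h, .i, .e, .f, .c, .d, .e, .b, .c, .d, .h, .j, .g, .f, .e, .d, .c, .b], .a),
  (108, [.e, .b, .c, .d, .h, .i, .g, .f, .e, .d, .h, .j, .g, .f, .e, .d], .c),
  (8004, [], .b),
  (6527, [.f, .e, .d, .h, .i, .c, .d, .h, .e, .d, .c], .b),
  (29387, [.i, .h, .d, .e, .c, .d, .h, .i, .f, .e, .d, .h, .f, .g, .d, .e, .f, .c, .d, .e, .b, .c, .d, .h, .i, .h, .e, .f, .c, .d, .e, .b, .c, .d, .h, .j, .g, .f, .e, .d, .c, .b], .a),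
  (1843, [.g, .f, .d, .e, .c, .d, .h, .i, .f, .e, .c, .d, .h, .g, .f, .e, .d, .c], .b),
  (5827, [.j, .g, .f, .d, .e, .c, .d, .h, .i, .g, .f, .e, .b, .c, .d, .h, .j, .g, .f, .e, .d, .c, .b], .a),
  (874, [.b, .c, .d, .h, .i, .f, .e, .d, .h, .j, .g, .f, .e, .d, .c, .b], .a),
  (333, [.e, .c, .d, .h, .i, .g, .f, .e, .d, .h, .j, .g, .f, .e, .d, .c, .b], .a),
  (231, [.e, .d, .h, .i, .f, .e, .d, .h, .g, .f, .e, .d], .c),
  (336, [.e, .d, .h, .i, .f, .e, .d, .h, .g, .f, .e, .d, .c], .b),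
  (6543, [.g, .f, .e, .d, .h, .i, .c, .d, .h, .e, .d, .c], .b),
  (5382, [.h, .g, .f, .d, .e, .c, .d, .h, .i, .e, .b, .c, .d, .h, .j, .g, .f, .e, .d, .c, .b], .a),
  (16572, [.h, .j, .g, .d, .e, .f, .c, .d, .e, .a, .b, .c, .d, .h, .i, .e, .f, .c, .d, .e, .b, .c, .d, .h, .j, .g, .f, .e, .d, .c, .b], .a),
  (5470, [.f, .e, .a, .b, .c, .d, .h, .i, .e, .f, .c, .d, .e, .b, .c, .d, .h, .g, .f, .e, .d, .c, .b], .a),
  (1191, [.c, .d, .e, .b, .c, .d, .h, .i, .h, .f, .g, .e, .f, .d, .e, .c, .d, .h, .j, .g, .f, .e, .d, .c, .b], .a),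
  (3837, [.i, .h, .d, .e, .f, .c, .d, .e, .b, .c, .d, .h, .i, .d, .h, .g, .f, .c, .d, .e, .b, .c, .d, .h, .j, .g, .f, .e, .d, .c, .b], .a),
  (68, [.d, .h, .e, .f, .d, .e, .c, .d, .h, .j, .g, .f, .e, .d, .c], .b),
  (2443, [.g, .f, .d, .e, .b, .c, .d, .h, .i, .f, .d, .e, .c, .d, .h, .j, .g, .f, .e, .d, .c], .b),
  (6702, [.i, .h, .d, .e, .b, .c, .d, .h, .i, .f, .c, .d, .e, .b, .c, .d, .h, .j, .g, .f, .e, .d, .c, .b], .a),
  (9431, [.f, .e, .d, .h, .c, .d, .e, .a, .b, .c, .d, .h, .i, .d, .e, .f, .c, .d, .e, .b, .c, .d, .h, .g, .f, .e, .d, .c, .b], .a),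
  (2962, [.j, .g, .f, .e, .d, .h, .i, .g, .f, .e, .c, .d, .h, .j, .g, .f, .e, .d, .c, .b], .a),
  (2239, [.h, .d, .e, .b, .c, .d, .h, .i, .g, .e, .f, .d, .e, .c, .d, .h, .j, .g, .f, .e, .d, .c, .b], .a),
  (2515, [.f, .e, .b, .c, .d, .h, .i, .e, .c, .d, .h, .f, .e, .d, .c], .b),
  (8007, [], .i),
  (21493, [.i, .f, .e, .d, .h, .g, .j, .f, .g, .e, .f, .c, .d, .e, .b, .c, .d, .h, .i, .g, .e, .f, .d, .e, .b, .c, .d, .h, .j, .g, .f, .e, .d, .c, .b], .a),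
  (6129, [.e, .f, .d, .e, .b, .c, .d, .h, .i, .f, .e, .b, .c, .d, .h, .g, .f, .e, .d, .c, .b], .a),
  (5, [.h, .c, .d, .e, .b, .c, .d, .h, .f, .g, .e, .f, .d, .e, .c, .d, .h, .j, .g, .f, .e, .d, .c], .b),
  (26419, [.e, .d, .h, .i, .e, .b, .c, .d, .h, .e, .f, .g, .d, .e, .f, .c, .d, .e, .b, .c, .d, .h, .i, .h, .g, .f, .d, .e, .b, .c, .d, .h, .j, .g, .f, .e, .d, .c, .b], .a),
  (14577, [.i, .e, .c, .d, .h, .e, .f, .c, .d, .e, .b, .c, .d, .h, .i, .h, .e, .f, .c, .d, .e, .b, .c, .d, .h, .j, .g, .f, .e, .d, .c, .b], .a),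
  (569, [.f, .e, .d, .h, .j, .g, .f, .e, .d, .c, .b], .a),
  (573, [.i, .g, .f, .e, .d, .h, .j, .g, .f, .e, .d, .c, .b], .a),
  (1322, [.h, .d, .e, .b, .c, .d, .h, .i, .f, .g, .e, .f, .d, .e, .c, .d, .h, .j, .g, .f, .e, .d, .c], .b),
  (4266, [.c, .d, .e, .b, .c, .d, .h, .i, .d, .h, .g, .f, .c, .d, .e, .b, .c, .d, .h, .j, .g, .f, .e, .d, .c, .b], .a),
  (695, [.b, .c, .d, .h, .i, .e, .d, .h, .f, .e, .d], .c),
  (494, [.c, .d, .h, .i, .e, .d, .h, .f, .e, .d], .c),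
  (5188, [.b, .c, .d, .h, .e, .f, .d, .e, .c, .d, .h, .i, .f, .g, .e, .f, .d, .e, .c, .d, .h, .j, .g, .f, .e, .d, .c, .b], .a),
  (8006, [], .j),
  (2206, [.e, .b, .c, .d, .h, .i, .e, .f, .d, .e, .c, .d, .h, .g, .f, .e, .d, .c, .b], .a),
  (24554, [.i, .h, .g, .f, .d, .e, .c, .d, .h, .f, .g, .d, .e, .f, .c, .d, .e, .b, .c, .d, .h, .i, .f, .d, .e, .b, .c, .d, .h, .j, .g, .f, .e, .d, .c, .b], .a),
  (7626, [.h, .j, .f, .g, .e, .f, .c, .d, .e, .b, .c, .d, .h, .i, .h, .f, .g, .e, .f, .d, .e, .b, .c, .d, .h, .j, .g, .f, .e, .d, .c, .b], .a),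
  (8001, [], .e),
  (394, [.g, .f, .e, .d, .h, .j, .g, .f, .e, .d, .c, .b], .a),
  (7834, [.c, .b], .a),
  (13530, [.h, .i, .e, .d, .h, .f, .g, .e, .f, .d, .e, .b, .c, .d, .h, .i, .g, .e, .f, .c, .d, .e, .b, .c, .d, .h, .j, .g, .f, .e, .d, .c, .b], .a),
  (10285, [.h, .i, .d, .h, .e, .f, .d, .e, .b, .c, .d, .h, .i, .h, .e, .f, .c, .d, .e, .b, .c, .d, .h, .j, .g, .f, .e, .d, .c, .b], .a),
  (13847, [.f, .g, .e, .f, .c, .d, .e, .b, .c, .d, .h, .i, .c, .d, .e, .b, .c, .d, .h, .j, .g, .f, .e, .d, .c, .b], .a),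
  (14053, [.i, .a, .b, .c, .d, .h, .e, .f, .d, .e, .c, .d, .h, .i, .g, .f, .c, .d, .e, .b, .c, .d, .h, .j, .g, .f, .e, .d, .c, .b], .a),
  (1285, [.f, .e, .d, .h, .i, .e, .f, .d, .e, .c, .d, .h, .g, .f, .e, .d, .c], .b),
  (1876, [.i, .h, .j, .g, .f, .e], .d),
  (798, [.j, .g, .f, .e, .c, .d, .h, .i, .e, .d, .h, .f, .g, .e, .f, .d, .e, .b, .c, .d, .h, .j, .g, .f, .e, .d, .c, .b], .a),
  (6639, [.i, .h, .f, .d, .e, .c, .d, .h, .i, .b, .c, .d, .h, .j, .g, .f, .e, .d, .c, .b], .a),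
  (17700, [.h, .i, .e, .c, .d, .h, .f, .g, .e, .f, .d, .e, .b, .c, .d, .h, .i, .h, .e, .f, .d, .e, .b, .c, .d, .h, .j, .g, .f, .e, .d, .c, .b], .a),
  (16371, [.h, .i, .e, .c, .d, .h, .f, .g, .e, .f, .d, .e, .b, .c, .d, .h, .i, .g, .f, .e, .b, .c, .d, .h, .j, .g, .f, .e, .d, .c, .b], .a),
  (993, [.d, .h, .i, .e, .d, .h, .f, .e, .d, .c], .b),
  (289, [.a, .b, .c, .d, .h, .i, .f, .e, .d, .h, .j, .g, .f, .e, .d], .c),
  (612, [.a, .b, .c, .d, .h, .i, .e, .d, .h, .g, .f, .e, .d], .c),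
  (6292, [.e, .d, .h, .i, .c, .d, .h, .e, .d, .c, .b], .a),
  (6529, [.g], .f),
  (3, [.e, .d, .h, .c, .d, .e, .b, .c, .d, .h, .f, .g, .e, .f, .d, .e, .c, .d, .h, .j, .g, .f, .e, .d, .c], .b),
  (21648, [.h, .i, .b, .c, .d, .h, .f, .g, .e, .f, .c, .d, .e, .a, .b, .c, .d, .h, .i, .g, .f, .c, .d, .e, .b, .c, .d, .h, .j, .g, .f, .e, .d, .c, .b], .a),
  (6541, [.f, .e, .d, .h, .i, .b, .c, .d, .h, .f, .e, .d, .c, .b], .a),
  (164, [.f, .e, .d, .h, .i, .g, .f, .e, .d, .h, .j, .g, .f, .e, .d, .c, .b], .a),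
  (5293, [.j, .g, .f, .e, .d, .h, .i, .c, .d, .h, .e, .d, .c], .b),
  (1234, [.a, .b, .c, .d, .h, .i, .h, .f, .d, .e, .c, .d, .h, .j, .g, .f, .e, .d, .c], .b),
  (8943, [.h, .g, .f, .b, .c, .d, .e, .a, .b, .c, .d, .h, .i, .g, .f, .c, .d, .e, .b, .c, .d, .h, .j, .g, .f, .e, .d, .c, .b], .a),
  (5405, [.g, .f, .d, .e, .c, .d, .h, .i, .f, .c, .d, .e, .b, .c, .d, .h, .j, .g, .f, .e, .d, .c, .b], .a),
  (8343, [.i, .c, .d, .h, .e, .f, .d, .e, .c, .d, .h, .i, .f, .d, .e, .b, .c, .d, .h, .g, .f, .e, .d, .c, .b], .a),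
  (165, [.h, .g, .e, .f, .c, .d, .e, .b, .c, .d, .h, .j, .g, .f, .e, .d, .c, .b], .a),
  (3401, [.f, .e, .d, .h, .i, .d, .e, .f, .c, .d, .e, .b, .c, .d, .h, .g, .f, .e, .d, .c, .b], .a),
  (2526, [.g, .f, .d, .e, .c, .d, .h, .i, .b, .c, .d, .h, .e, .d, .c, .b], .a),
  (1001, [.d, .h, .c, .d, .e, .b, .c, .d, .h, .g, .f, .e, .d, .c, .b], .a),
  (1000, [.e, .d, .h, .c, .d, .e, .b, .c, .d, .h, .j, .g, .f, .e, .d, .c, .b], .a),
  (16788, [.c, .d, .h, .j, .g, .e, .f, .c, .d, .e, .a, .b, .c, .d, .h, .i, .e, .f, .d, .e, .b, .c, .d, .h, .j, .g, .f, .e, .d, .c, .b], .a),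
  (20542, [.d, .h, .i, .g, .f, .e, .d, .h, .f, .c, .d, .e, .b, .c, .d, .h, .i, .e, .f, .c, .d, .e, .b, .c, .d, .h, .j, .g, .f, .e, .d, .c, .b], .a),
  (19960, [.d, .h, .i, .a, .b, .c, .d, .h, .f, .g, .e, .f, .d, .e, .c, .d, .h, .i, .g, .f, .e, .b, .c, .d, .h, .j, .g, .f, .e, .d, .c, .b], .a),
  (160, [.e, .d, .h, .i, .f, .e, .d, .h, .j, .g, .f, .e, .d], .c),
  (6701, [.h, .f, .d, .e, .b, .c, .d, .h, .i, .f, .c, .d, .e, .b, .c, .d, .h, .j, .g, .f, .e, .d, .c, .b], .a),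
  (23155, [.e, .d, .h, .i, .b, .c, .d, .h, .f, .g, .e, .f, .d, .e, .a, .b, .c, .d, .h, .i, .g, .f, .c, .d, .e, .b, .c, .d, .h, .j, .g, .f, .e, .d, .c, .b], .a),
  (3106, [.f, .e, .a, .b, .c, .d, .h, .i, .e, .b, .c, .d, .h, .j, .g, .f, .e, .d, .c, .b], .a),
  (493, [.d, .h, .i, .e, .d, .h, .g, .f, .e, .d], .c),
  (6540, [.f, .e, .d, .h, .i, .c, .d, .h, .e, .d, .c, .b], .a),
  (8002, [], .f),
  (24462, [.c, .d, .h, .i, .f, .e, .d, .h, .g, .d, .e, .f, .c, .d, .e, .b, .c, .d, .h, .i, .g, .f, .c, .d, .e, .b, .c, .d, .h, .j, .g, .f, .e, .d, .c, .b], .a),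
  (12139, [.i, .h, .d, .e, .f, .c, .d, .e, .b, .c, .d, .h, .i, .h, .e, .f, .c, .d, .e, .b, .c, .d, .h, .g, .f, .e, .d, .c, .b], .a),
  (8017, [.i, .h, .d, .e, .a, .b, .c, .d, .h, .i, .d, .h, .f, .c, .d, .e, .b, .c, .d, .h, .j, .g, .f, .e, .d, .c, .b], .a),
  (873, [.a, .b, .c, .d, .h, .i, .e, .d, .h, .f, .e, .d], .c),
  (7999, [], .h),
  (19771, [.d, .h, .i, .e, .c, .d, .h, .g, .e, .f, .c, .d, .e, .b, .c, .d, .h, .i, .g, .e, .f, .d, .e, .b, .c, .d, .h, .j, .g, .f, .e, .d, .c, .b], .a),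
  (1998, [.d, .e, .c, .d, .h, .i, .h, .f, .d, .e, .b, .c, .d, .h, .j, .g, .f, .e, .d, .c, .b], .a),
  (4256, [.e, .f, .d, .e, .c, .d, .h, .i, .b, .c, .d, .h, .g, .f, .e, .d, .c, .b], .a),
  (1903, [.f, .e, .d, .h, .i, .h, .f, .c, .d, .e, .b, .c, .d, .h, .j, .g, .f, .e, .d, .c, .b], .a),
  (713, [.d, .h, .c, .d, .e, .b, .c, .d, .h, .j, .g, .f, .e, .d, .c, .b], .a),
  (2524, [.f, .e, .d, .h, .c, .d, .e, .b, .c, .d, .h, .f, .e, .d, .c, .b], .a),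
  (2159, [.b, .c, .d, .h, .i, .d, .e, .c, .d, .h, .j, .g, .f, .e, .d, .c, .b], .a),
  (19984, [.h, .i, .c, .d, .h, .j, .f, .g, .e, .f, .d, .e, .a, .b, .c, .d, .h, .i, .g, .f, .c, .d, .e, .b, .c, .d, .h, .j, .g, .f, .e, .d, .c, .b], .a),
  (549, [.e, .c, .d, .h, .i, .d, .h, .g, .e, .f, .d, .e, .b, .c, .d, .h, .j, .g, .f, .e, .d, .c, .b], .a),
  (1694, [.b, .c, .d, .h, .i, .e, .d, .h, .g, .f, .e, .d, .c, .b], .a),
  (5294, [.j, .g, .f, .e, .d, .h, .i, .c, .d, .h, .f, .e, .d, .c, .b], .a),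
  (3533, [.c, .d, .h, .i, .b, .c, .d, .h, .j, .g, .f, .e, .d, .c, .b], .a),
  (5262, [.e, .d, .h, .i, .c, .d, .h, .e, .d, .c], .b),
  (8326, [.b, .c, .d, .h, .e, .f, .d, .e, .b, .c, .d, .h, .i, .e, .b, .c, .d, .h, .j, .g, .f, .e, .d, .c, .b], .a),
  (22038, [.f, .e, .d, .h, .i, .c, .d, .h, .f, .g, .e, .f, .d, .e, .b, .c, .d, .h, .i, .h, .g, .f, .c, .d, .e, .b, .c, .d, .h, .j, .g, .f, .e, .d, .c, .b], .a),
  (872, [.a, .b, .c, .d, .h, .i, .e, .d, .h, .g, .f, .e, .d, .c], .b),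
  (4151, [.g, .f, .e, .d, .h, .i, .c, .d, .h, .j, .g, .f, .e, .d, .c], .b),
  (232, [.c, .d, .h, .i, .f, .e, .d, .h, .g, .f, .e, .d], .c),
  (4237, [.g, .f, .e, .d, .h, .i, .b, .c, .d, .h, .e, .d, .c, .b], .a),
  (2, [.f, .e, .d, .h, .c, .d, .e, .b, .c, .d, .h, .f, .g, .e, .f, .d, .e, .c, .d, .h, .j, .g, .f, .e, .d, .c], .b),
  (5713, [.j, .g, .f, .e, .d, .h, .i, .d, .e, .b, .c, .d, .h, .g, .f, .e, .d, .c, .b], .a),
  (7323, [.d, .h, .j, .g, .e, .f, .d, .e, .c, .d, .h, .i, .h, .g, .f, .d, .e, .b, .c, .d, .h, .j, .g, .f, .e, .d, .c, .b], .a),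
  (1162, [.b, .c, .d, .h, .i, .e, .f, .d, .e, .c, .d, .h, .j, .g, .f, .e, .d, .c, .b], .a),
  (2676, [.d, .h, .i, .b, .c, .d, .h, .j, .g, .f, .e, .d, .c, .b], .a),
  (14207, [.i, .h, .e, .f, .d, .e, .a, .b, .c, .d, .h, .i, .d, .e, .f, .c, .d, .e, .b, .c, .d, .h, .g, .f, .e, .d, .c, .b], .a),
  (13669, [.e, .d, .h, .i, .f, .e, .d, .h, .c, .d, .e, .b, .c, .d, .h, .i, .d, .e, .f, .c, .d, .e, .b, .c, .d, .h, .j, .g, .f, .e, .d, .c, .b], .a),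
  (2527, [.j, .g, .f, .e, .c, .d, .h, .i, .b, .c, .d, .h, .e, .d, .c, .b], .a),
  (1034, [.b, .c, .d, .h, .i, .f, .g, .e, .f, .c, .d, .e, .b, .c, .d, .h, .j, .g, .f, .e, .d, .c, .b], .a),
  (6968, [.j, .f, .g, .e, .f, .d, .e, .c, .d, .h, .i, .g, .e, .f, .c, .d, .e, .b, .c, .d, .h, .j, .g, .f, .e, .d, .c, .b], .a),
  (4746, [.h, .j, .g, .f, .d, .e, .c, .d, .h, .i, .g, .e, .f, .d, .e, .b, .c, .d, .h, .j, .g, .f, .e, .d, .c, .b], .a),
  (3413, [.d, .h, .e, .f, .d, .e, .c, .d, .h, .i, .b, .c, .d, .h, .j, .g, .f, .e, .d, .c, .b], .a),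
  (723, [.h, .i, .h, .f, .c, .d, .e, .b, .c, .d, .h, .j, .g, .f, .e, .d, .c, .b], .a),
  (726, [.d, .e, .f, .c, .d, .e, .b, .c, .d, .h, .g, .f, .e, .d, .c, .b], .a),
  (4235, [.d, .e, .c, .d, .h, .i, .b, .c, .d, .h, .e, .d, .c, .b], .a),
  (1878, [.i, .e, .d, .h, .c, .d, .e, .b, .c, .d, .h, .g, .f, .e, .d, .c, .b], .a),
  (3321, [.h, .d, .e, .c, .d, .h, .i, .b, .c, .d, .h, .e, .d, .c, .b], .a),
  (22586, [.g, .f, .e, .c, .d, .h, .j, .f, .g, .e, .f, .c, .d, .e, .a, .b, .c, .d, .h, .i, .g, .f, .c, .d, .e, .b, .c, .d, .h, .j, .g, .f, .e, .d, .c, .b], .a),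
  (1725, [.d, .h, .i, .e, .c, .d, .h, .g, .f, .e, .d, .c], .b),
  (13830, [.h, .i, .d, .h, .j, .f, .g, .e, .f, .d, .e, .b, .c, .d, .h, .i, .g, .f, .e, .b, .c, .d, .h, .j, .g, .f, .e, .d, .c, .b], .a),
  (984, [.b, .c, .d, .h, .i, .e, .d, .h, .f, .e, .d, .c], .b),
  (6546, [.g, .f, .e, .d, .h, .i, .b, .c, .d, .h, .g, .f, .e, .d, .c, .b], .a),
  (425, [.a, .b, .c, .d, .h, .i, .e, .d, .h, .j, .g, .f, .e, .d], .c),
  (162, [.e, .d, .h, .i, .g, .f, .e, .d, .h, .j, .g, .f, .e, .d, .c], .b),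
  (5720, [.e, .f, .d, .e, .c, .d, .h, .i, .h, .d, .e, .b, .c, .d, .h, .g, .f, .e, .d, .c, .b], .a),
  (5552, [.f, .c, .d, .e, .b, .c, .d, .h, .i, .g, .d, .e, .f, .c, .d, .e, .b, .c, .d, .h, .j, .g, .f, .e, .d, .c, .b], .a),
  (9966, [.h, .d, .e, .f, .c, .d, .e, .a, .b, .c, .d, .h, .i, .h, .g, .f, .c, .d, .e, .b, .c, .d, .h, .j, .g, .f, .e, .d, .c, .b], .a),
  (1637, [.d, .e, .a, .b, .c, .d, .h, .i, .g, .f, .d, .e, .c, .d, .h, .j, .g, .f, .e, .d, .c, .b], .a),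
  (944, [.d, .e, .b, .c, .d, .h, .i, .f, .g, .e, .f, .d, .e, .c, .d, .h, .j, .g, .f, .e, .d, .c], .b),
  (114, [.f, .e, .d, .h, .i, .g, .f, .e, .d, .h, .j, .g, .f, .e, .d, .c], .b),
  (11, [.h, .d, .e, .c, .d, .h, .f, .g, .e, .f, .d, .e, .c, .d, .h, .j, .g, .f, .e, .d, .c, .b], .a),
  (20741, [.h, .i, .c, .d, .h, .j, .f, .g, .e, .f, .d, .e, .a, .b, .c, .d, .h, .i, .e, .f, .d, .e, .b, .c, .d, .h, .j, .g, .f, .e, .d, .c, .b], .a),
  (539, [.e, .d, .h, .i, .h, .g, .e, .f, .d, .e, .b, .c, .d, .h, .j, .g, .f, .e, .d, .c, .b], .a),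
  (1763, [.h, .d, .e, .b, .c, .d, .h, .i, .g, .e, .f, .d, .e, .c, .d, .h, .j, .g, .f, .e, .d, .c], .b),
  (1154, [.d, .e, .c, .d, .h, .i, .h, .g, .f, .d, .e, .c, .d, .h, .j, .g, .f, .e, .d, .c, .b], .a),
  (158, [.f, .e, .c, .d, .h, .i, .g, .f, .e, .d, .h, .j, .g, .f, .e, .d, .c], .b),
  (6, [.h, .d, .e, .b, .c, .d, .h, .f, .g, .e, .f, .d, .e, .c, .d, .h, .j, .g, .f, .e, .d, .c], .b),
  (149, [.h, .i, .d, .h, .e, .f, .d, .e, .c, .d, .h, .j, .g, .f, .e, .d, .c], .b),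
  (11339, [.f, .e, .d, .h, .b, .c, .d, .e, .a, .b, .c, .d, .h, .i, .g, .d, .e, .f, .c, .d, .e, .b, .c, .d, .h, .j, .g, .f, .e, .d, .c, .b], .a),
  (26685, [.e, .d, .h, .i, .d, .e, .c, .d, .h, .f, .g, .d, .e, .f, .c, .d, .e, .a, .b, .c, .d, .h, .i, .g, .f, .c, .d, .e, .b, .c, .d, .h, .j, .g, .f, .e, .d, .c, .b], .a),
  (3917, [.h, .d, .e, .a, .b, .c, .d, .h, .i, .e, .f, .d, .e, .c, .d, .h, .j, .g, .f, .e, .d, .c, .b], .a),
  (1043, [.i, .h, .d, .e, .b, .c, .d, .h, .f, .e, .d, .c, .b], .a),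
  (5331, [.c, .d, .e, .a, .b, .c, .d, .h, .i, .d, .h, .g, .f, .c, .d, .e, .b, .c, .d, .h, .j, .g, .f, .e, .d, .c, .b], .a),
  (5538, [.b, .c, .d, .h, .g, .e, .f, .d, .e, .c, .d, .h, .i, .e, .b, .c, .d, .h, .j, .g, .f, .e, .d, .c, .b], .a),
  (596, [.d, .e, .a, .b, .c, .d, .h, .i, .f, .e, .d, .h, .g, .f, .e, .d, .c], .b),
  (2322, [.b, .c, .d, .h, .i, .e, .d, .h, .f, .e, .d, .c, .b], .a),
  (11429, [.d, .h, .i, .c, .d, .h, .e, .f, .d, .e, .c, .d, .h, .i, .d, .h, .e, .f, .d, .e, .b, .c, .d, .h, .g, .f, .e, .d, .c, .b], .a),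
  (10426, [.i, .f, .e, .d, .h, .f, .c, .d, .e, .b, .c, .d, .h, .i, .g, .f, .c, .d, .e, .b, .c, .d, .h, .j, .g, .f, .e, .d, .c, .b], .a),
  (11717, [.i, .b, .c, .d, .h, .e, .f, .d, .e, .c, .d, .h, .i, .d, .h, .g, .f, .c, .d, .e, .b, .c, .d, .h, .j, .g, .f, .e, .d, .c, .b], .a),
  (4988, [.g, .f, .e, .a, .b, .c, .d, .h, .i, .e, .c, .d, .h, .f, .e, .d, .c, .b], .a),
  (3840, [.f, .e, .d, .c, .b], .a),
  (387, [.d, .e, .c, .d, .h, .j, .g, .f, .e, .d, .c, .b], .a),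
  (5826, [.h, .e, .f, .d, .e, .c, .d, .h, .i, .g, .f, .e, .b, .c, .d, .h, .j, .g, .f, .e, .d, .c, .b], .a),
  (1881, [.h, .i, .d, .h, .c, .d, .e, .b, .c, .d, .h, .g, .f, .e, .d, .c, .b], .a),
  (517, [.i, .e, .f, .g, .d, .e, .f, .c, .d, .e, .b, .c, .d, .h, .j, .g, .f, .e, .d, .c, .b], .a),
  (10470, [.d, .h, .j, .g, .f, .c, .d, .e, .a, .b, .c, .d, .h, .i, .g, .f, .c, .d, .e, .b, .c, .d, .h, .j, .g, .f, .e, .d, .c, .b], .a),
  (13628, [.h, .i, .b, .c, .d, .h, .e, .f, .d, .e, .a, .b, .c, .d, .h, .i, .f, .e, .b, .c, .d, .h, .j, .g, .f, .e, .d, .c, .b], .a),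
  (5183, [.c, .d, .h, .e, .f, .d, .e, .b, .c, .d, .h, .i, .f, .g, .e, .f, .d, .e, .c, .d, .h, .j, .g, .f, .e, .d, .c, .b], .a),
  (7337, [.j, .g, .f, .e, .a, .b, .c, .d, .h, .i, .e, .f, .d, .e, .b, .c, .d, .h, .g, .f, .e, .d, .c, .b], .a),
  (707, [.d, .h, .i, .e, .d, .h, .f, .e, .d], .c),
  (3797, [.h, .g, .e, .f, .c, .d, .e, .a, .b, .c, .d, .h, .i, .g, .f, .e, .b, .c, .d, .h, .j, .g, .f, .e, .d, .c, .b], .a),
  (24260, [.h, .i, .h, .d, .e, .c, .d, .h, .f, .g, .e, .f, .b, .c, .d, .e, .a, .b, .c, .d, .h, .i, .f, .c, .d, .e, .b, .c, .d, .h, .j, .g, .f, .e, .d, .c, .b], .a),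
  (503, [.h, .c, .d, .e, .b, .c, .d, .h, .j, .g, .f, .e, .d, .c, .b], .a),
  (2133, [.d, .h, .g, .e, .f, .d, .e, .c, .d, .h, .i, .e, .d, .h, .f, .g, .e, .f, .d, .e, .b, .c, .d, .h, .j, .g, .f, .e, .d, .c, .b], .a),
  (346, [.d, .h, .g, .f, .c, .d, .e, .b, .c, .d, .h, .j, .g, .f, .e, .d, .c, .b], .a),
  (1507, [.f, .d, .e, .b, .c, .d, .h, .i, .h, .f, .g, .e, .f, .d, .e, .b, .c, .d, .h, .j, .g, .f, .e, .d, .c, .b], .a),
  (926, [.h, .d, .e, .c, .d, .h, .i, .f, .e, .d, .h, .j, .g, .f, .e, .d, .c, .b], .a),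
  (1149, [.b, .c, .d, .h, .i, .g, .f, .d, .e, .c, .d, .h, .j, .g, .f, .e, .d, .c, .b], .a),
  (217, [.h, .i, .d, .h, .e, .f, .d, .e, .c, .d, .h, .g, .f, .e, .d, .c], .b),
  (1377, [.i, .h, .j, .g, .f, .e, .d], .c),
  (6307, [.j, .g, .f, .e, .d, .h, .i, .c, .d, .h, .j, .g, .f, .e, .d, .c, .b], .a),
  (4997, [.j, .g, .f, .e, .c, .d, .h, .i, .d, .e, .c, .d, .h, .j, .g, .f, .e, .d, .c, .b], .a),
  (2262, [.h, .d, .e, .a, .b, .c, .d, .h, .i, .f, .g, .e, .f, .d, .e, .c, .d, .h, .j, .g, .f, .e, .d, .c, .b], .a),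
  (2890, [.c, .d, .e, .f, .b, .c, .d, .e, .a, .b, .c, .d, .h, .i, .d, .h, .g, .f, .c, .d, .e, .b, .c, .d, .h, .j, .g, .f, .e, .d, .c, .b], .a),
  (353, [.g, .d, .e, .f, .c, .d, .e, .b, .c, .d, .h, .j, .g, .f, .e, .d, .c, .b], .a),
  (62, [.c, .d, .h, .e, .f, .d, .e, .c, .d, .h, .j, .g, .f, .e, .d, .c, .b], .a),
  (2628, [.g, .f, .e, .d, .h, .i, .e, .f, .g, .d, .e, .f, .c, .d, .e, .b, .c, .d, .h, .j, .g, .f, .e, .d, .c, .b], .a),
  (25682, [.d, .h, .i, .g, .f, .e, .d, .h, .e, .f, .g, .d, .e, .f, .c, .d, .e, .b, .c, .d, .h, .i, .g, .e, .f, .c, .d, .e, .b, .c, .d, .h, .j, .g, .f, .e, .d, .c, .b], .a),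
  (8977, [.j, .g, .f, .d, .e, .a, .b, .c, .d, .h, .i, .e, .f, .d, .e, .b, .c, .d, .h, .g, .f, .e, .d, .c, .b], .a),
  (12723, [.e, .c, .d, .h, .j, .f, .g, .e, .f, .d, .e, .c, .d, .h, .i, .g, .f, .c, .d, .e, .b, .c, .d, .h, .j, .g, .f, .e, .d, .c, .b], .a),
  (148, [.i, .d, .h, .e, .f, .d, .e, .c, .d, .h, .g, .f, .e, .d, .c], .b),
  (2909, [.i, .h, .g, .f, .e, .d, .c, .b], .a),
  (4202, [.i, .c, .d, .h, .e, .f, .d, .e, .c, .d, .h, .i, .g, .e, .f, .d, .e, .c, .d, .h, .j, .g, .f, .e, .d, .c, .b], .a),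
  (4464, [.j, .g, .f, .e, .c, .d, .h, .i, .e, .f, .g, .d, .e, .f, .c, .d, .e, .b, .c, .d, .h, .j, .g, .f, .e, .d, .c, .b], .a),
  (7730, [.i, .d, .h, .g, .e, .f, .c, .d, .e, .a, .b, .c, .d, .h, .i, .f, .e, .b, .c, .d, .h, .j, .g, .f, .e, .d, .c, .b], .a),
  (10895, [.d, .h, .i, .c, .d, .h, .e, .f, .d, .e, .c, .d, .h, .i, .h, .g, .f, .d, .e, .b, .c, .d, .h, .j, .g, .f, .e, .d, .c, .b], .a),
  (6659, [.j, .g, .f, .e, .c, .d, .h, .i, .c, .d, .e, .b, .c, .d, .h, .j, .g, .f, .e, .d, .c, .b], .a),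
  (1395, [.d, .h, .i, .f, .c, .d, .e, .b, .c, .d, .h, .j, .g, .f, .e, .d, .c, .b], .a),
  (4356, [.g, .f, .e, .d, .h, .i, .d, .e, .f, .c, .d, .e, .b, .c, .d, .h, .g, .f, .e, .d, .c, .b], .a),
  (1002, [.i, .d, .h, .c, .d, .e, .b, .c, .d, .h, .j, .g, .f, .e, .d, .c, .b], .a),
  (1382, [.h, .i, .d, .h, .c, .d, .e, .b, .c, .d, .h, .j, .g, .f, .e, .d, .c, .b], .a),
  (8593, [.e, .b, .c, .d, .h, .f, .g, .e, .f, .d, .e, .c, .d, .h, .i, .c, .d, .e, .b, .c, .d, .h, .j, .g, .f, .e, .d, .c, .b], .a),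
  (22781, [.i, .b, .c, .d, .h, .j, .f, .g, .e, .f, .b, .c, .d, .e, .a, .b, .c, .d, .h, .i, .g, .f, .c, .d, .e, .b, .c, .d, .h, .j, .g, .f, .e, .d, .c, .b], .a),
  (313, [.e, .d, .h, .i, .f, .g, .e, .f, .d, .e, .c, .d, .h, .j, .g, .f, .e, .d, .c], .b),
  (3198, [.h, .d, .e, .b, .c, .d, .h, .i, .e, .f, .d, .e, .c, .d, .h, .g, .f, .e, .d, .c], .b),
  (630, [.f, .e, .d, .h, .g, .f, .e, .d, .c], .b),
  (2244, [.i, .h, .d, .e, .c, .d, .h, .i, .g, .e, .f, .d, .e, .c, .d, .h, .j, .g, .f, .e, .d, .c, .b], .a),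
  (79, [.f, .e, .d, .h, .i, .g, .f, .e, .d, .h, .j, .g, .f, .e, .d], .c),
  (4373, [.i, .h, .d, .e, .c, .d, .h, .i, .h, .e, .f, .c, .d, .e, .b, .c, .d, .h, .g, .f, .e, .d, .c, .b], .a),
  (14817, [.e, .c, .d, .h, .d, .e, .f, .c, .d, .e, .a, .b, .c, .d, .h, .i, .g, .f, .c, .d, .e, .b, .c, .d, .h, .j, .g, .f, .e, .d, .c, .b], .a),
  (13733, [.a, .b, .c, .d, .h, .e, .f, .d, .e, .a, .b, .c, .d, .h, .i, .g, .f, .c, .d, .e, .b, .c, .d, .h, .j, .g, .f, .e, .d, .c, .b], .a),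
  (2521, [.i, .d, .h, .e, .d], .c),
  (172, [.i, .f, .g, .e, .f, .d, .e, .b, .c, .d, .h, .j, .g, .f, .e, .d, .c, .b], .a),
  (25174, [.b, .c, .d, .h, .i, .e, .d, .h, .f, .g, .d, .e, .f, .c, .d, .e, .b, .c, .d, .h, .i, .g, .f, .d, .e, .b, .c, .d, .h, .j, .g, .f, .e, .d, .c, .b], .a),
  (4592, [.e, .f, .d, .e, .c, .d, .h, .i, .f, .d, .e, .b, .c, .d, .h, .j, .g, .f, .e, .d, .c, .b], .a),
  (3384, [.f, .d, .e, .c, .d, .h, .i, .g, .f, .c, .d, .e, .b, .c, .d, .h, .j, .g, .f, .e, .d, .c, .b], .a),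
  (350, [.h, .e, .f, .c, .d, .e, .b, .c, .d, .h, .g, .f, .e, .d, .c, .b], .a),
  (1912, [.d, .h, .i, .d, .e, .f, .c, .d, .e, .b, .c, .d, .h, .g, .f, .e, .d, .c, .b], .a),
  (1003, [.i, .d, .h, .f, .c, .d, .e, .b, .c, .d, .h, .g, .f, .e, .d, .c, .b], .a),
  (13394, [.i, .e, .d, .h, .j, .g, .e, .f, .c, .d, .e, .b, .c, .d, .h, .i, .g, .f, .d, .e, .b, .c, .d, .h, .j, .g, .f, .e, .d, .c, .b], .a),
  (2624, [.a, .b, .c, .d, .h, .i, .e, .f, .g, .d, .e, .f, .c, .d, .e, .b, .c, .d, .h, .j, .g, .f, .e, .d, .c, .b], .a),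
  (418, [.e, .f, .d, .e, .a, .b, .c, .d, .h, .i, .g, .f, .e, .c, .d, .h, .j, .g, .f, .e, .d, .c], .b),
  (3878, [.j, .g, .f, .e, .a, .b, .c, .d, .h, .i, .e, .c, .d, .h, .f, .e, .d, .c, .b], .a),
  (3318, [.h, .i, .d, .h, .e, .d, .c, .b], .a),
  (5548, [.c, .d, .e, .a, .b, .c, .d, .h, .i, .g, .d, .e, .f, .c, .d, .e, .b, .c, .d, .h, .j, .g, .f, .e, .d, .c, .b], .a),
  (1574, [.c, .d, .h, .i, .d, .e, .c, .d, .h, .j, .g, .f, .e, .d, .c, .b], .a),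
  (1477, [.b, .c, .d, .h, .i, .e, .f, .d, .e, .b, .c, .d, .h, .j, .g, .f, .e, .d, .c, .b], .a),
  (11549, [.i, .a, .b, .c, .d, .h, .e, .f, .d, .e, .a, .b, .c, .d, .h, .i, .g, .f, .e, .b, .c, .d, .h, .j, .g, .f, .e, .d, .c, .b], .a),
  (1441, [.i, .d, .e, .b, .c, .d, .h, .f, .e, .d, .c, .b], .a),
  (72, [.c, .d, .h, .e, .f, .d, .e, .c, .d, .h, .g, .f, .e, .d, .c], .b),
  (6741, [.j, .g, .f, .d, .e, .b, .c, .d, .h, .i, .g, .f, .c, .d, .e, .b, .c, .d, .h, .j, .g, .f, .e, .d, .c, .b], .a),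
  (18004, [.e, .d, .h, .i, .b, .c, .d, .h, .g, .e, .f, .d, .e, .c, .d, .h, .i, .g, .f, .e, .b, .c, .d, .h, .j, .g, .f, .e, .d, .c, .b], .a),
  (87, [.d, .h, .e, .f, .d, .e, .c, .d, .h, .j, .g, .f, .e, .d, .c, .b], .a),
  (2280, [.g, .f, .c, .d, .e, .b, .c, .d, .h, .i, .h, .f, .g, .e, .f, .d, .e, .c, .d, .h, .j, .g, .f, .e, .d, .c, .b], .a),
  (18107, [.d, .h, .i, .a, .b, .c, .d, .h, .e, .f, .d, .e, .c, .d, .h, .i, .g, .f, .e, .b, .c, .d, .h, .j, .g, .f, .e, .d, .c, .b], .a),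
  (3323, [.g, .f, .e, .c, .d, .h, .i, .b, .c, .d, .h, .e, .d, .c, .b], .a),
  (24538, [.c, .d, .h, .i, .e, .c, .d, .h, .f, .g, .e, .f, .c, .d, .e, .a, .b, .c, .d, .h, .i, .h, .g, .f, .c, .d, .e, .b, .c, .d, .h, .j, .g, .f, .e, .d, .c, .b], .a),
  (6796, [.i, .h, .d, .e, .c, .d, .h, .i, .d, .e, .f, .c, .d, .e, .b, .c, .d, .h, .g, .f, .e, .d, .c, .b], .a),
  (16823, [.e, .c, .d, .h, .j, .f, .g, .e, .f, .d, .e, .b, .c, .d, .h, .i, .e, .f, .d, .e, .b, .c, .d, .h, .j, .g, .f, .e, .d, .c, .b], .a),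
  (1557, [.i, .h, .g, .f, .d, .e, .c, .d, .h, .i, .e, .d, .h, .f, .g, .e, .f, .d, .e, .b, .c, .d, .h, .j, .g, .f, .e, .d, .c, .b], .a),
  (91, [.c, .d, .h, .e, .f, .d, .e, .c, .d, .h, .g, .f, .e, .d, .c, .b], .a),
  (71, [.d, .h, .i, .e, .d, .h, .f, .g, .e, .f, .d, .e, .c, .d, .h, .j, .g, .f, .e, .d, .c], .b),
  (11550, [.b, .c, .d, .h, .e, .f, .d, .e, .a, .b, .c, .d, .h, .i, .g, .f, .c, .d, .e, .b, .c, .d, .h, .j, .g, .f, .e, .d, .c, .b], .a),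
  (14276, [.h, .i, .d, .h, .g, .e, .f, .d, .e, .c, .d, .h, .i, .e, .f, .c, .d, .e, .b, .c, .d, .h, .g, .f, .e, .d, .c, .b], .a),
  (5319, [.e, .f, .d, .e, .c, .d, .h, .i, .b, .c, .d, .h, .j, .g, .f, .e, .d, .c, .b], .a),
  (2541, [.j, .f, .g, .e, .f, .d, .e, .c, .d, .h, .i, .b, .c, .d, .h, .j, .g, .f, .e, .d, .c, .b], .a),
  (356, [.e, .f, .g, .d, .e, .f, .c, .d, .e, .b, .c, .d, .h, .j, .g, .f, .e, .d, .c, .b], .a),
  (392, [.i, .f, .d, .e, .c, .d, .h, .j, .g, .f, .e, .d, .c, .b], .a),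
  (5434, [.j, .g, .f, .d, .e, .c, .d, .h, .i, .g, .f, .c, .d, .e, .b, .c, .d, .h, .j, .g, .f, .e, .d, .c, .b], .a),
  (1974, [.h, .i, .e, .b, .c, .d, .h, .g, .f, .e, .d, .c, .b], .a),
  (5265, [.g, .f], .e),
  (28968, [.e, .b, .c, .d, .h, .i, .h, .d, .e, .c, .d, .h, .f, .g, .d, .e, .f, .c, .d, .e, .a, .b, .c, .d, .h, .i, .g, .f, .d, .e, .b, .c, .d, .h, .j, .g, .f, .e, .d, .c, .b], .a),
  (5322, [.c, .d, .e, .b, .c, .d, .h, .i, .d, .h, .f, .c, .d, .e, .b, .c, .d, .h, .j, .g, .f, .e, .d, .c, .b], .a),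
  (3522, [.d, .h, .i, .b, .c, .d, .h, .g, .f, .e, .d, .c, .b], .a),
  (979, [.c, .d, .h, .i, .f, .e, .d, .h, .g, .f, .e, .d, .c, .b], .a),
  (3324, [.j, .g, .f, .e, .d, .h, .i, .b, .c, .d, .h, .e, .d, .c, .b], .a),
  (161, [.c, .d, .h, .i, .f, .e, .d, .h, .j, .g, .f, .e, .d], .c),
  (5290, [.g, .f, .e, .d, .h, .i, .c, .d, .h, .e, .d, .c, .b], .a),
  (7993, [.h, .d, .e, .a, .b, .c, .d, .h, .i, .c, .d, .e, .b, .c, .d, .h, .g, .f, .e, .d, .c, .b], .a),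
  (13165, [.e, .c, .d, .h, .e, .f, .c, .d, .e, .b, .c, .d, .h, .i, .e, .f, .d, .e, .b, .c, .d, .h, .j, .g, .f, .e, .d, .c, .b], .a),
  (8697, [.h, .d, .e, .b, .c, .d, .h, .f, .g, .e, .f, .d, .e, .c, .d, .h, .i, .g, .f, .e, .b, .c, .d, .h, .j, .g, .f, .e, .d, .c, .b], .a),
  (443, [.i, .g, .f, .e, .d, .h, .j, .g, .f, .e, .d, .c], .b),
  (1594, [.f, .e, .d, .h, .i, .g, .f, .e, .c, .d, .h, .j, .g, .f, .e, .d, .c, .b], .a),
  (10933, [.f, .e, .d, .h, .g, .f, .c, .d, .e, .b, .c, .d, .h, .i, .f, .e, .b, .c, .d, .h, .g, .f, .e, .d, .c, .b], .a),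
  (1926, [.f, .e, .c, .d, .h, .i, .h, .e, .f, .c, .d, .e, .b, .c, .d, .h, .j, .g, .f, .e, .d, .c, .b], .a),
  (1019, [.h, .i, .e, .f, .c, .d, .e, .b, .c, .d, .h, .g, .f, .e, .d, .c, .b], .a),
  (4150, [.j, .g, .f], .e),
  (357, [.i, .f, .g, .d, .e, .f, .c, .d, .e, .b, .c, .d, .h, .j, .g, .f, .e, .d, .c, .b], .a),
  (1379, [.i, .e, .d, .h, .c, .d, .e, .b, .c, .d, .h, .j, .g, .f, .e, .d, .c, .b], .a),
  (28071, [.a, .b, .c, .d, .h, .i, .d, .e, .c, .d, .h, .f, .g, .e, .f, .c, .d, .e, .a, .b, .c, .d, .h, .i, .f, .c, .d, .e, .b, .c, .d, .h, .j, .g, .f, .e, .d, .c, .b], .a),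
  (8966, [.h, .i, .d, .h, .g, .e, .f, .d, .e, .c, .d, .h, .i, .h, .g, .f, .d, .e, .b, .c, .d, .h, .j, .g, .f, .e, .d, .c, .b], .a),
  (6375, [.c, .d, .h, .e, .f, .d, .e, .b, .c, .d, .h, .i, .h, .g, .f, .d, .e, .c, .d, .h, .j, .g, .f, .e, .d, .c, .b], .a),
  (13489, [.e, .c, .d, .h, .j, .f, .g, .e, .f, .d, .e, .b, .c, .d, .h, .i, .h, .g, .e, .f, .d, .e, .b, .c, .d, .h, .j, .g, .f, .e, .d, .c, .b], .a),
  (8067, [.g, .f, .e, .b, .c, .d, .h, .i, .c, .d, .e, .b, .c, .d, .h, .g, .f, .e, .d, .c, .b], .a),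
  (301, [.g, .f, .e, .d, .h, .j, .g, .f, .e, .d, .c], .b),
  (304, [.d, .h, .i, .h, .g, .f, .d, .e, .c, .d, .h, .j, .g, .f, .e, .d, .c], .b),
  (343, [.d, .h, .i, .g, .f, .e, .d, .h, .j, .g, .f, .e, .d, .c, .b], .a),
  (5297, [.j, .g, .f, .e, .c, .d, .h, .i, .b, .c, .d, .h, .j, .g, .f, .e, .d, .c, .b], .a),
  (3474, [.j, .g, .f, .e, .d, .h, .i, .e, .f, .g, .d, .e, .f, .c, .d, .e, .b, .c, .d, .h, .j, .g, .f, .e, .d, .c, .b], .a),
  (13406, [.f, .e, .b, .c, .d, .h, .g, .e, .f, .c, .d, .e, .b, .c, .d, .h, .i, .g, .f, .e, .b, .c, .d, .h, .j, .g, .f, .e, .d, .c, .b], .a),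
  (1254, [.d, .h, .i, .e, .c, .d, .h, .j, .g, .f, .e, .d, .c], .b),
  (7684, [.i, .h, .j, .g, .f, .c, .d, .e, .a, .b, .c, .d, .h, .i, .f, .e, .b, .c, .d, .h, .g, .f, .e, .d, .c, .b], .a),
  (1103, [.f, .d, .e, .c, .d, .h, .i, .d, .h, .g, .e, .f, .d, .e, .b, .c, .d, .h, .j, .g, .f, .e, .d, .c, .b], .a),
  (12099, [.i, .c, .d, .h, .g, .e, .f, .d, .e, .c, .d, .h, .i, .c, .d, .e, .b, .c, .d, .h, .j, .g, .f, .e, .d, .c, .b], .a),
  (1015, [.d, .h, .i, .g, .f, .c, .d, .e, .b, .c, .d, .h, .j, .g, .f, .e, .d, .c, .b], .a),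
  (6991, [.f, .e, .d, .h, .e, .f, .c, .d, .e, .b, .c, .d, .h, .i, .g, .f, .e, .b, .c, .d, .h, .j, .g, .f, .e, .d, .c, .b], .a),
  (16011, [.h, .i, .c, .d, .h, .j, .g, .e, .f, .d, .e, .c, .d, .h, .i, .g, .f, .e, .b, .c, .d, .h, .j, .g, .f, .e, .d, .c, .b], .a),
  (5288, [.f, .e, .d, .h, .i, .b, .c, .d, .h, .e, .d, .c, .b], .a),
  (6480, [.f, .d, .e, .a, .b, .c, .d, .h, .i, .d, .e, .b, .c, .d, .h, .g, .f, .e, .d, .c, .b], .a),
  (2062, [.j, .g, .f, .e, .c, .d, .h, .i, .f, .g, .e, .f, .d, .e, .b, .c, .d, .h, .j, .g, .f, .e, .d, .c, .b], .a),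
  (7, [.c, .d, .e, .b, .c, .d, .h, .f, .g, .e, .f, .d, .e, .c, .d, .h, .j, .g, .f, .e, .d, .c], .b),
  (5269, [.j, .g, .f, .e, .d, .h, .i, .c, .d, .h, .j, .g, .f, .e, .d, .c], .b),
  (12737, [.g, .d, .e, .f, .c, .d, .e, .a, .b, .c, .d, .h, .i, .c, .d, .e, .b, .c, .d, .h, .j, .g, .f, .e, .d, .c, .b], .a),
  (12427, [.c, .d, .h, .f, .g, .e, .f, .d, .e, .b, .c, .d, .h, .i, .d, .e, .f, .c, .d, .e, .b, .c, .d, .h, .j, .g, .f, .e, .d, .c, .b], .a),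
  (6151, [.i, .h, .e, .f, .c, .d, .e, .a, .b, .c, .d, .h, .i, .f, .e, .b, .c, .d, .h, .g, .f, .e, .d, .c, .b], .a)]

/-- The set of 324 points. -/
def sBits : Nat := 0x1000000000000000000000000000000000000000000000000000010400000000000000000000000000000000000400000000000000000000000000000000000010000000000000000000000000000000000008000000000000000000000000000000000000000000000000400000000000000000000000004000000000020080000000000002000000000000000000000000020000000000080000010000000000008000000002000000000000000000000000000000000000000000000000000000400000000000000000000000000000000000000000000000000000000000000000000000000000000400000000000000000001000000000000000400000000000000008000000000000000000000000000000000000001000000000000000000000000000000002000000000000000000000000000000002000000000000000000000000000000000000000000042000020000000008000080000000008001000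00000000000000000000800000000000000000000000000000000000000000000000000000000000000002000000000000000000000100000000000000000000000000000000000001000000000000000000000000000004000000002000000000000000000000800000000000000000000000000000000000000000000000000000000080000000400000000000000010008000000000000000000000000000000080000000000000000000020000000080000000100000080000000000000000000000000000000000000000000040000000000000001001000000000000000028000000000000000000000000004000000000000000000000000000000000000000000040000000000008000000000000000040000000800000000000000000000000000000000000000000000000000000004000200000000000000040000000000000820000000000000000000000000000000100000000000000000000000000000040000000000000200000000000100080000000000000000000000000400000000000000000000000000000000000000020000000002000040000000000200000000000000000000000000000000000000000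00000000000000000000000000000020000000000000000000000000000000000000080000000000000000000000000000000000000000800000800000000000000000000000000000000000000200000000008000000000000000000000002000000800000080800000080000000000000002010000000000000000000000000000000000000000000040800000000000000000000000000000000000040000000800000000000000000000000000008020000208000000000000004000000000040000800000000000020000000000000000000000040000000000000000000000000000000000000000040000000004000000000040000010000080000040000100000000000000000000000000000000000000000000000000000000000000000020000000000000000000000000000000000000000000000000800000000001000000000000000040000000000000000000000000004000000040000000000000800000000000400000000000000000000000004000000400000000000000000000000000000000000000000000000000000000000000000000000000000000000000000000000000000000000000000000000000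00000000000000000000000000000000000000000000000000000000000000000000000000000000000000001000000000000001000000000000000000000000000000000200000002000000000000000000000002000000000000000000000000000000000000000000000000000000000000100040000000000000000000000000000000000000800000000000000000000001000000000000000010000002000000000000000000000000000000000000000000000000000000000000000000000000000000000000000000800000002000000001000000000000000000000000000000000000000000000000041000000002000000000000000000000050000000000000000000000000000000000000001000000000000000000000000000000000400000000000000001000000000000000000000000000000000000000000000000000000000000000000000000000000000004000000000000000000000000000100000000000000000000000000000000001000000000000100000000000000000000010010000000000000000000000000000000000000000000000000000400000000000000080000000000020000000000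00000000000000000000000000000000000000000000000000000000000000000000000000000000010000000000000000000000000000000000000000000000000080000000000000000000000000000000000000000000000000000080000000000000000000000000000000010000000000000000000000000800000000000000000000000000000000000001000000000080800000000000000000000000000000000000000000000000000000000000000000000000000000100000000000100000000000000002000000000000000000000000000000000000000000000000000000000000000000000000000008000000000000000000000000400040000400000000000000000000000000000000800000000000002000000000000000000000000000000000000080000000000000004010000000000000000000000000000000200000008000000000000000800000000000000000000000000000002000000000001000000000000000000000000000000000000000000000000000000000000000000020010000000000000000000000000000000000000000000000000000000000000400000000800000000000000000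00000000400000000000000000000000008000000000000000000020000000000000080000000000000000000000000000000000000000000000000000000000000000000000000000000000000000000000000000000040000800004000000000000000000000000000000000000000000000000000000000000000000000000000000000000080000000000000000004000000000000000000000000000004000000000400000000008000080000400000000000000000000000000000001000000000000000000000000000000000000000000000000020000000010000000000000100000000000000000000000000000000000000000080000000000000000000000000000000000000000000000000000000000000010000008000000000000000000000000000000000080000000000000000040000000000002000000000000000000000000020000000800000000000000000000000000000000000000000000000000000000000000000000000000000000000000040000010000000000000000000000000000000000200000000000000000002001000000000000000000000000000000000000000000000000000000000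00000000000000800000000000000000000000000000000000000000000000000000000000000000080020010000000001000000020000000000000000000000000000000000000000000000000000000000000000000000000000000000000000000000000000000000000000000100000000000000000000000000000000000000000000000000000000000000000000000000000008000000000000000000000000000000000000000000000000000000000000000000000000040000000000000000004000000000000800000000000000000000100000000200000000000000000000000000000000000000000000000000000000000000000000000000000000000000000000000000000000000000000000000000000000002000000000000000000000000000000000000000000000000000000000000000000000000000000000000000000000000400000000000008000000000000000000000000000000000000000000080000000000000000000400000000000000000000000100020000000000000000000040000000000201000000000000000000000000000000000000000000000000000000000000000200000000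00800000000000000000000001000001000000000000020100000000000000000000000000000000000000000000000000000000000000000000000000000000000020000000080000010000000240000000000000000400000000000040000000000000020000000000000000000000000000000000000001000000000000000000000000000000000000000000000000000000080000000000000000008000000000000000000000000000001010200000000000000000000000000000004000000000008000000004000000000000000000000000000004000000000010000000000000000000000000000000000000000000440000000100000000000000000000000000000000000000000000000000000000000020000000080000000000000000000000000040000000200000000000004000000000410000000000000000000000000010000000000000000000004000000000000000000000000000000200000000000000040000000000000000000800000000000400200008020000000000000000000000010000001000000000000020000000000000000000000000000000000000000200200000000000000000000040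00000000010000000000000000000000000000000000000000000000000000000000000000000000000080000000000000000000000000008000000000000000000000000000000000040000000000000000000000000000000000000000004000000000000000000000000000000000008000000000000000000000000000000000000020008000000000000000000000000000000000000000000400000000000000100080040000000000000000000000800000000002002000000080002000000000000000000000000000000000000000000000010000000000000000000000000000000000000000000040000020000000000000000000000000000000000000000000000000040000022000100000000000000000000000000000000040000000000020000000000000000000200010000000000000000000800000000000000000200000000000000000000000000000000000000000000000400000000000000000004000000000000000000000000000000000000180000000000000000000000000000400000000040000010000000000000008000000000000000000000000000000000001001000000000000000000000000000000000000000004000000000000000000000004000400000000001000000000000000000000000000000000000000000000000000040000000000000000000000000000000000000000000000000000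

/-- Points generating it. -/
def S0 : List Nat := [44, 3, 5, 9, 0]

/-- How it is generated. -/
def clo : List (Nat × Nat × Nat) := [(20, 3, 44), (14, 5, 44), (4, 9, 44), (8, 0, 44), (67, 9, 3), (27, 0, 3), (77, 9, 5), (108, 0, 5), (128, 0, 9), (15, 5, 20), (181, 9, 20), (87, 9, 14), (101, 3, 4), (99, 5, 4), (121, 0, 4), (123, 9, 8), (50, 44, 67), (23, 5, 67), (65, 0, 67), (113, 5, 27), (152, 9, 27), (47, 44, 77), (183, 0, 77), (289, 9, 108), (209, 44, 128), (217, 3, 128), (281, 5, 128), (45, 9, 15), (59, 0, 15), (70, 5, 181), (212, 0, 181), (162, 3, 87), (157, 0, 87), (93, 5, 101), (170, 0, 101), (307, 0, 99), (238, 3, 121), (323, 5, 121), (168, 3, 123), (81, 5, 123), (54, 5, 50), (141, 0, 50), (57, 44, 23), (187, 0, 23), (122, 44, 65), (114, 5, 65), (210, 9, 113), (222, 44, 152), (258, 5, 152), (30, 3, 47), (97, 0, 47), (173, 44, 183), (262, 3, 183), (317, 44, 289),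 (302, 3, 289), (257, 3, 209), (229, 5, 209), (203, 44, 217), (299, 5, 217), (286, 44, 281), (58, 44, 45), (40, 3, 45), (22, 5, 45), (154, 0, 45), (6, 9, 59), (160, 44, 70), (94, 0, 70), (197, 5, 212), (95, 44, 162), (200, 0, 162), (206, 3, 157), (195, 44, 93), (17, 9, 93), (34, 0, 93), (207, 44, 170), (225, 5, 170), (221, 9, 170), (253, 44, 307), (137, 3, 307), (284, 9, 307), (164, 44, 238), (279, 5, 238), (204, 9, 238), (321, 44, 323), (294, 9, 323), (250, 5, 168), (153, 9, 54), (202, 0, 54), (267, 5, 141), (191, 9, 141), (124, 9, 57), (301, 0, 57), (237, 44, 187), (280, 3, 187), (236, 5, 187), (287, 9, 187), (117, 5, 122), (79, 9, 122), (109, 44, 114), (175, 9, 114), (248, 44, 210), (223, 0, 210), (215, 5, 222), (278, 44, 258), (159, 0, 258), (7, 9, 30), (166, 0, 30), (227, 3, 97), (205, 9, 97), (110, 3, 173), (270, 9, 173), (285, 44, 262), (264, 9, 262), (319, 3,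 317), (320, 44, 302), (312, 0, 302), (190, 5, 257), (84, 9, 257), (132, 9, 229), (243, 5, 203), (55, 9, 203), (277, 44, 299), (119, 9, 299), (303, 0, 299), (271, 3, 286), (247, 9, 286), (179, 0, 58), (56, 0, 40), (76, 0, 22), (196, 44, 154), (71, 3, 154), (208, 5, 154), (193, 9, 154), (41, 44, 6), (38, 3, 6), (21, 5, 6), (2, 9, 160), (310, 0, 160), (155, 44, 94), (105, 3, 94), (106, 5, 94), (49, 9, 94), (252, 44, 197), (51, 9, 197), (118, 9, 95), (61, 0, 95), (147, 44, 200), (69, 3, 200), (184, 5, 200), (241, 9, 200), (242, 44, 206), (274, 9, 206), (224, 0, 195), (18, 0, 17), (66, 44, 34), (32, 3, 34), (134, 5, 34), (92, 9, 34), (254, 5, 207), (261, 44, 225), (78, 3, 253), (189, 44, 137), (201, 5, 164), (308, 44, 279), (309, 0, 279), (297, 3, 321), (219, 3, 294), (125, 9, 250), (298, 0, 153), (249, 44, 202), (295, 3, 202), (245, 5, 202), (259, 9, 202), (315, 44, 267),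 (316, 9, 267), (182, 5, 191), (140, 0, 124), (291, 3, 301), (266, 9, 301), (272, 3, 237), (292, 44, 280), (180, 9, 117), (12, 5, 79), (104, 3, 109), (188, 0, 175), (148, 3, 248), (233, 5, 248), (218, 0, 248), (192, 44, 223), (176, 44, 215), (52, 3, 278), (90, 44, 159), (199, 9, 159), (158, 5, 166), (185, 9, 227), (115, 3, 205), (226, 9, 110), (48, 3, 270), (290, 5, 285), (322, 44, 319), (75, 9, 319), (318, 0, 319), (300, 5, 320), (139, 9, 320), (305, 0, 320), (314, 44, 312), (35, 5, 84), (234, 44, 243), (228, 0, 243), (268, 3, 277), (163, 9, 277), (169, 44, 119), (296, 0, 271), (288, 44, 179), (165, 5, 179), (174, 9, 179), (73, 3, 56), (220, 9, 56), (167, 5, 76), (60, 9, 76), (235, 9, 196), (64, 5, 71), (138, 9, 71), (186, 9, 208), (256, 44, 193), (313, 0, 41), (80, 44, 38), (36, 5, 38), (102, 0, 38), (88, 44, 21), (144, 0, 21), (39, 0, 2), (127, 3, 310), (130, 3, 49),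 (28, 5, 49), (131, 0, 51), (156, 5, 61), (194, 0, 274), (282, 9, 224), (13, 44, 18), (91, 5, 18), (10, 9, 18), (107, 9, 66), (42, 9, 32), (116, 9, 134), (145, 44, 92), (86, 3, 92), (1, 5, 92), (260, 9, 254), (129, 3, 261), (150, 9, 261), (82, 9, 78), (133, 5, 189), (126, 9, 189), (214, 9, 201), (172, 9, 308), (293, 9, 309), (263, 9, 297), (74, 44, 125), (275, 44, 298), (239, 9, 249), (120, 5, 295), (306, 9, 295), (178, 9, 245), (255, 3, 315), (311, 9, 315), (143, 5, 316), (171, 0, 182), (304, 9, 291), (240, 9, 272), (232, 5, 292), (112, 44, 180), (198, 3, 180), (37, 5, 180), (251, 0, 180), (53, 0, 12), (216, 9, 104), (135, 0, 104), (146, 5, 148), (26, 9, 148), (142, 9, 218), (43, 9, 192), (72, 3, 90), (283, 9, 158), (31, 3, 185), (213, 5, 185), (211, 44, 226), (62, 3, 226), (85, 44, 48), (273, 9, 290), (83, 3, 139), (46, 3, 228), (177, 44, 163), (151, 0, 169), (149,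 5, 296), (231, 9, 165), (25, 5, 174), (136, 44, 60), (276, 44, 235), (244, 0, 256), (269, 9, 313), (63, 9, 36), (24, 9, 127), (111, 44, 28), (89, 3, 131), (100, 9, 91), (29, 44, 10), (11, 3, 10), (103, 5, 10), (19, 5, 116), (98, 5, 145), (230, 0, 145), (68, 5, 86), (16, 44, 1), (161, 0, 133), (265, 5, 263), (246, 0, 239), (33, 0, 143), (96, 9, 111)]

/-- How the base generates it. -/
def fromBase : List (Nat × Nat × Nat) := [(163, 0, 1), (39, 0, 2), (198, 0, 29), (27, 0, 3), (61, 1, 2), (113, 1, 29), (68, 1, 3), (23, 1, 39), (230, 1, 27), (291, 2, 29), (187, 2, 163), (184, 2, 198), (13, 2, 27), (85, 2, 113), (189, 2, 68), (95, 2, 23), (215, 2, 230), (213, 29, 3), (158, 29, 39), (251, 29, 27), (73, 29, 61), (103, 29, 68), (321, 29, 23), (92, 29, 230), (221, 29, 187), (285, 29, 184), (4, 29, 13), (100, 29, 85), (298, 29, 189), (151, 29, 95), (24, 29, 215), (145, 3, 163),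 (180, 3, 198), (108, 3, 113), (77, 3, 23), (96, 3, 230), (301, 3, 291), (280, 3, 187), (88, 3, 184), (42, 3, 85), (195, 3, 95), (225, 3, 215), (232, 3, 158), (16, 3, 251), (56, 3, 73), (177, 3, 103), (297, 3, 321), (86, 3, 92), (76, 3, 285), (101, 3, 4), (244, 3, 100), (132, 3, 298), (171, 3, 151), (28, 3, 24), (303, 163, 184), (313, 163, 13), (286, 163, 85), (138, 163, 189), (239, 163, 215), (8, 163, 213), (15, 163, 251), (129, 163, 285), (119, 163, 4), (191, 163, 100), (289, 163, 298), (196, 163, 24), (11, 163, 180), (10, 163, 108), (194, 163, 77), (304, 163, 88), (201, 163, 42), (266, 163, 195), (183, 163, 225), (193, 163, 232), (231, 163, 16), (175, 163, 56), (44, 163, 177), (287, 163, 297), (20, 163, 86), (214, 163, 76), (147, 163, 101), (258, 163, 244), (250, 163, 132), (234, 163, 171), (97, 163, 28), (275, 39, 113), (134, 39, 68), (262, 39, 230), (149, 39, 251),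 (148, 39, 73), (114, 39, 103), (299, 39, 321), (228, 39, 92), (89, 39, 221), (52, 39, 100), (59, 39, 298), (238, 39, 180), (41, 39, 77), (242, 39, 96), (170, 39, 301), (222, 39, 88), (5, 39, 42), (57, 39, 16), (34, 39, 56), (162, 39, 177), (317, 39, 297), (109, 39, 86), (121, 39, 76), (93, 39, 244), (125, 39, 171), (63, 39, 28), (268, 39, 303), (322, 39, 286), (246, 39, 138), (7, 39, 8), (205, 39, 15), (71, 39, 129), (235, 39, 119), (305, 39, 289), (253, 39, 196), (192, 39, 11), (165, 39, 10), (188, 39, 304), (58, 39, 201), (224, 39, 183), (54, 39, 193), (181, 39, 231), (83, 39, 175), (306, 39, 287), (18, 39, 20), (257, 39, 147), (87, 39, 258), (207, 39, 250), (167, 39, 234), (202, 39, 97), (169, 198, 61), (208, 198, 215), (236, 198, 298), (179, 198, 77), (112, 198, 96), (35, 198, 301), (139, 198, 280), (70, 198, 42), (26, 198, 195), (241, 198, 232), (144, 198, 56),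 (31, 198, 177), (220, 198, 101), (21, 198, 132), (300, 198, 171), (50, 198, 28), (281, 198, 138), (315, 198, 196), (47, 198, 304), (178, 198, 266), (118, 198, 183), (55, 198, 193), (259, 198, 175), (98, 198, 20), (137, 198, 214), (84, 198, 147), (53, 198, 258), (278, 198, 250), (80, 198, 97), (203, 198, 134), (74, 198, 149), (292, 198, 228), (153, 198, 242), (211, 198, 170), (19, 198, 222), (282, 198, 34), (12, 198, 317), (302, 198, 125), (277, 198, 63), (276, 198, 322), (288, 198, 246), (176, 198, 7), (65, 198, 235), (240, 198, 305), (136, 198, 253), (174, 198, 165), (237, 198, 188), (48, 198, 58), (123, 198, 224), (312, 198, 54), (290, 198, 181), (271, 198, 83), (106, 198, 306), (190, 198, 18), (233, 198, 257), (218, 198, 87), (182, 198, 207), (126, 198, 202), (22, 27, 291), (45, 27, 73), (37, 27, 103), (296, 27, 321), (79, 27, 221), (252, 27, 100), (140, 27, 298),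 (154, 27, 56), (261, 27, 244), (124, 27, 132), (314, 27, 286), (274, 27, 138), (256, 27, 129), (199, 27, 119), (117, 27, 196), (185, 27, 10), (120, 27, 201), (102, 27, 193), (229, 27, 147), (210, 27, 258), (110, 27, 250), (38, 27, 234), (166, 27, 97), (223, 27, 114), (51, 27, 89), (14, 27, 59), (307, 27, 34), (206, 27, 162), (309, 27, 317), (186, 27, 125), (308, 27, 322), (311, 27, 246), (40, 27, 71), (265, 27, 235), (66, 27, 253), (161, 27, 165), (127, 27, 58), (105, 27, 54), (164, 27, 181), (168, 27, 257), (69, 27, 87), (62, 27, 167), (94, 27, 202), (226, 27, 208), (159, 27, 236), (310, 27, 179), (111, 27, 139), (295, 27, 70), (49, 27, 26), (146, 27, 144), (36, 27, 300), (135, 27, 315), (270, 27, 118), (204, 27, 55), (248, 27, 278), (243, 27, 80), (172, 27, 74), (247, 27, 153), (273, 27, 282), (320, 27, 277), (283, 27, 276), (254, 27, 288), (6, 27, 176), (128, 27,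 65), (75, 27, 136), (173, 27, 237), (64, 27, 290), (78, 27, 190), (130, 61, 251), (90, 61, 103), (32, 61, 24), (212, 61, 301), (284, 61, 88), (115, 61, 177), (316, 61, 244), (200, 61, 8), (216, 61, 289), (319, 61, 304), (141, 61, 59), (255, 61, 222), (156, 61, 5), (91, 61, 57), (157, 61, 34), (272, 61, 125), (72, 61, 205), (219, 61, 181), (131, 61, 112), (160, 61, 35), (30, 61, 26), (143, 61, 241), (269, 61, 144), (25, 61, 31), (279, 61, 21), (17, 61, 315), (150, 61, 278), (60, 61, 80), (197, 61, 153), (43, 61, 211), (155, 61, 176), (104, 61, 174), (260, 61, 218), (107, 61, 45), (264, 61, 296), (33, 61, 252), (249, 61, 199), (142, 61, 309), (67, 61, 186), (294, 61, 308), (245, 61, 265), (46, 61, 168), (116, 61, 159), (122, 61, 49), (318, 61, 146), (82, 61, 36), (152, 61, 273), (293, 61, 254), (9, 61, 64), (99, 113, 215), (323, 113, 225), (209, 113, 196), (217, 113,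 262), (227, 113, 206), (263, 113, 273), (81, 113, 254), (133, 113, 160), (267, 113, 197)]

def base : List Nat := [0, 1, 2, 29, 3]

end CfsgLib.SporadicB.Fi23Derived
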